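import Cfsg.Agent.DMult.Minus.Embed

/-!
The double cover of the minus-type `Ω` inside the product with the spin group over the quadratic extension.
-/

set_option autoImplicit false
set_option linter.unusedSectionVars false
set_option linter.unusedSimpArgs false

open Matrix
open scoped commutatorElement

namespace Cfsg.Agent.DMult.Minus

open Chev.Ortho
open CurtisTitsD (ok_of_lev lev_ne_of_ok el_congr)

universe u

section Gen

variable {F : Type u} [Field F] [Fintype F] {m : ℕ} {a b : F} [hab : Fact (Aniso a b)] {Γ : Type u} [Group Γ]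
  [Finite Γ]

/-- In a perfect extension the lifted root elements generate. -/
theorem GB_eq_top (B : BMExt m a b Γ) (hP : commutator Γ = ⊤) (hr : B.σ.range ≤ Eg m a b) : B.GB = ⊤ := by
  have hle : Eg m a b ≤ B.GB.map B.σ := by
    rw [Eg, Subgroup.closure_le]
    rintro _ (⟨p, q, h, t, rfl⟩ | ⟨p, z, rfl⟩)
    · exact ⟨B.XL p q t, Subgroup.subset_closure (Or.inl ⟨p, q, lev_ne_of_ok h, t, rfl⟩), B.σ_XL h t⟩
    · exact ⟨B.Y p z, Subgroup.subset_closure (Or.inr ⟨p, z, rfl⟩), B.σ_Y p z⟩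
  have hsplit : ∀ g : Γ, ∃ x ∈ B.GB, B.σ g = B.σ x := fun g => by
    obtain ⟨x, hx, e⟩ := hle (hr ⟨g, rfl⟩)
    exact ⟨x, hx, e.symm⟩
  refine top_le_iff.1 ?_
  rw [← hP, commutator_def, Subgroup.commutator_le]
  intro x _ y _
  obtain ⟨x', hx, ex⟩ := hsplit x
  obtain ⟨y', hy', ey⟩ := hsplit y
  rw [br_indep B.central ex ey, commutatorElement_def]
  exact mul_mem (mul_mem (mul_mem hx hy') (inv_mem hx)) (inv_mem hy')

/-- A map of extensions respects the candidate kernel element. -/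
theorem map_zzB {Γ' : Type u} [Group Γ'] [Finite Γ'] (B : BMExt m a b Γ) (B' : BMExt m a b Γ') (τ : Γ →* Γ')
    (hτ : ∀ x, B'.σ (τ x) = B.σ x) : τ B.zzB = B'.zzB := by
  let τD : B.DS →* B'.DS := (τ.comp B.DS.subtype).codRestrict B'.DS fun x => by
    obtain ⟨g, hg⟩ := x.2
    exact ⟨g, hg.trans (hτ _).symm⟩
  have hD : ∀ x, B'.D.σ (τD x) = B.D.σ x := fun x => emb_injective (a := a) (b := b)
    (((B'.emb_σD (τD x)).trans (hτ x)).trans (B.emb_σD x).symm)
  exact congrArg Subtype.val (map_zz B.D B'.D τD hD)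

theorem σ_zzB (B : BMExt m a b Γ) : B.σ B.zzB = 1 := by
  rw [BMExt.zzB, ← B.emb_σD]
  exact (congrArg emb (σ_zz B.D)).trans (map_one _)

theorem zzB_mul_self (B : BMExt m a b Γ) : B.zzB * B.zzB = 1 := congrArg Subtype.val (zz_mul_self B.D)

theorem perfect_GB (B : BMExt m a b Γ) : commutator B.GB = ⊤ := by
  have hm := B.three
  have hle : B.GB ≤ (commutator B.GB).map B.GB.subtype := by
    have hX : ∀ {p q : Fin m ⊕ Fin m}, lev p ≠ lev q → ∀ t, B.XL p q t ∈ (commutator B.GB).map B.GB.subtype := by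
      intro p q hpq t
      obtain ⟨c, hcp, hcq⟩ := third hm p q
      have n1 : lev p ≠ lev (bar c) := by rw [lev_bar]; exact hcp.symm
      rw [← mul_one t, ← B.XL_rel hpq hcp.symm hcq]
      exact ⟨⁅⟨_, Subgroup.subset_closure (Or.inl ⟨p, bar c, n1, t, rfl⟩)⟩,
        ⟨_, Subgroup.subset_closure (Or.inl ⟨c, q, hcq, 1, rfl⟩)⟩⁆,
        Subgroup.commutator_mem_commutator (Subgroup.mem_top _) (Subgroup.mem_top _), rfl⟩
    rw [BMExt.GB, Subgroup.closure_le]
    rintro _ (⟨p, q, hpq, t, rfl⟩ | ⟨p, z, rfl⟩)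
    · exact hX hpq t
    · obtain ⟨q, hq, -⟩ := third hm p p
      have n1 : lev p ≠ lev (bar q) := by rw [lev_bar]; exact hq.symm
      have e := B.XL_Y_rel hq.symm 1 z
      rw [one_smul, one_mul] at e
      rw [SetLike.mem_coe, show B.Y p z = ⁅B.XL p (bar q) 1, B.Y q z⁆ * (B.XL p q z.norm)⁻¹ by
        rw [e, mul_inv_cancel_right]]
      refine mul_mem ?_ (inv_mem (hX hq.symm _))
      exact ⟨⁅⟨_, Subgroup.subset_closure (Or.inl ⟨p, bar q, n1, 1, rfl⟩)⟩,
        ⟨_, Subgroup.subset_closure (Or.inr ⟨q, z, rfl⟩)⟩⁆,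
        Subgroup.commutator_mem_commutator (Subgroup.mem_top _) (Subgroup.mem_top _), rfl⟩
  refine top_le_iff.1 fun x _ => ?_
  obtain ⟨y, hy, e⟩ := hle x.2
  rwa [← show y = x from Subtype.ext e]

/-- The extension on the group of lifted root elements. -/
noncomputable def subExt (B : BMExt m a b Γ) : BMExt m a b B.GB where
  σ := B.σ.comp B.GB.subtype
  central := fun x hx => Subgroup.mem_center_iff.2 fun y => Subtype.ext
    (Subgroup.mem_center_iff.1 (B.central hx) _)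
  el_mem p q h t := ⟨⟨_, Subgroup.subset_closure (Or.inl ⟨p, q, lev_ne_of_ok h, t, rfl⟩)⟩, B.σ_XL h t⟩
  sh_mem p z := ⟨⟨_, Subgroup.subset_closure (Or.inr ⟨p, z, rfl⟩)⟩, B.σ_Y p z⟩
  three := B.three

/-- A map to an extension over the quadratic extension respects the lifts. -/
theorem map_XL (h2 : (2 : F) ≠ 0) [Fintype (W a b)] {Δ : Type u} [Group Δ] [Finite Δ] (E : Ext (W a b) (m + 1) Δ)
    (B : BMExt m a b Γ) (ψ : Γ →* Δ) (hψ : ∀ x, E.σ (ψ x) = iota h2 (B.σ x))
    {p q : Fin m ⊕ Fin m} (h : lev p ≠ lev q) (t : F) :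
    ψ (B.XL p q t) = X E (jI p) (jI q) (algebraMap F (W a b) t) := by
  obtain ⟨c, hcp, hcq⟩ := third B.three p q
  have opc : lev p ≠ lev (bar c) := by rw [lev_bar]; exact hcp.symm
  rw [← mul_one t, ← B.XL_rel h hcp.symm hcq, map_commutatorElement, map_mul, map_one,
    ← X_rel E (c := jI c) (by rwa [lev_jI, lev_jI]) (by rw [lev_jI, lev_jI]; exact hcp.symm)
      (by rwa [lev_jI, lev_jI])]
  refine br_indep E.central ?_ ?_
  · rw [hψ, B.σ_XL (ok_of_lev opc), iota_el,
      σ_X E (ok_of_lev (by rw [lev_bar, lev_jI, lev_jI]; exact hcp.symm))]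
    exact el_congr _ _ rfl (jI_bar c) _
  · rw [hψ, B.σ_XL (ok_of_lev hcq), iota_el, map_one,
      σ_X E (ok_of_lev (by rwa [lev_jI, lev_jI]))]

theorem map_hL (h2 : (2 : F) ≠ 0) [Fintype (W a b)] {Δ : Type u} [Group Δ] [Finite Δ] (E : Ext (W a b) (m + 1) Δ)
    (B : BMExt m a b Γ) (ψ : Γ →* Δ) (hψ : ∀ x, E.σ (ψ x) = iota h2 (B.σ x))
    {p q : Fin m ⊕ Fin m} (h : lev p ≠ lev q) :
    ψ (B.hL p q (-1)) = DMult.h E (jI p) (jI q) (-1) := by
  have h' : lev (bar p) ≠ lev (bar q) := by rwa [lev_bar, lev_bar]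
  rw [BMExt.hL_eq, DMult.h, map_mul, B.wL_eq h, DMult.w, map_mul, map_mul, map_XL h2 E B ψ hψ h,
    map_XL h2 E B ψ hψ h', jI_bar, jI_bar]
  simp only [map_neg, map_one, inv_neg, inv_one]

theorem map_zz_ext (h2 : (2 : F) ≠ 0) [Fintype (W a b)] {Δ : Type u} [Group Δ] [Finite Δ] (E : Ext (W a b) (m + 1) Δ)
    (B : BMExt m a b Γ) (ψ : Γ →* Δ) (hψ : ∀ x, E.σ (ψ x) = iota h2 (B.σ x)) :
    ∃ i j : Fin (m + 1), i ≠ j ∧
      ψ B.zzB = DMult.h E (Sum.inl i) (Sum.inr j) (-1) * DMult.h E (Sum.inl i) (Sum.inl j) (-1) := by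
  have hne := lev_pq B.D
  refine ⟨_, _, fun e => iP_ne B.D (Fin.castSucc_injective m e), ?_⟩
  rw [show B.zzB = B.hL (Sum.inl (iP B.D)) (Sum.inr (iQ B.D)) (-1) * B.hL (Sum.inl (iP B.D)) (Sum.inl (iQ B.D)) (-1)
    from rfl, map_mul, map_hL h2 E B ψ hψ (by simpa [lev] using hne), map_hL h2 E B ψ hψ hne]
  rfl

end Gen

section Cover

variable {F : Type u} [Field F] [Fintype F] {m : ℕ} {a b : F} [hab : Fact (Aniso a b)]

local notation "I" => Fin m ⊕ Fin m

/-- A fixed finite enumeration of the extension. -/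
noncomputable local instance : Fintype (W a b) := Fintype.ofFinite _

theorem good_W (h2 : (2 : F) ≠ 0) (n : ℕ) :
    (n = 4 → Nat.card (W a b) ≠ 2) ∧ (n = 3 → (2 : W a b) ≠ 0) := by
  have h2' : (2 : W a b) ≠ 0 := fun e => h2 (by
    have e' : algebraMap F (W a b) 2 = algebraMap F (W a b) 0 := by rw [map_ofNat, map_zero, e]
    exact (algebraMap F (W a b)).injective e')
  refine ⟨fun _ h => h2' ?_, fun _ => h2'⟩
  rw [Nat.card_eq_fintype_card] at h
  have : CharP (W a b) 2 := ringChar.of_eq (FiniteField.even_card_iff_char_two.2 (by rw [h]))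
  exact CharTwo.two_eq_zero

variable (m a b) in
/-- The spin extension over the quadratic extension. -/
noncomputable def EK (hm : 3 ≤ m) (h2 : (2 : F) ≠ 0) : Ext (W a b) (m + 1) (Spin.G (W a b) (m + 1)) :=
  Spin.ext (W a b) (by omega) (good_W h2 _)

variable (hm : 3 ≤ m) (h2 : (2 : F) ≠ 0)

variable (m a b) in
/-- The pullback of the spin group. -/
noncomputable def G1 : Subgroup (GM m a b × Spin.G (W a b) (m + 1)) :=
  MonoidHom.eqLocus ((iota h2).comp (MonoidHom.fst _ _)) ((EK m a b hm h2).σ.comp (MonoidHom.snd _ _))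

theorem exists_spin {g : GM m a b} (hg : g ∈ commutator (GM m a b)) :
    ∃ s, (g, s) ∈ G1 m a b hm h2 := by
  have h1 : iota h2 g ∈ commutator (OG (W a b) (m + 1)) := by
    have hle : (commutator (GM m a b)).map (iota h2) ≤ commutator (OG (W a b) (m + 1)) := by
      rw [commutator_def, Subgroup.map_commutator, commutator_def]
      exact Subgroup.commutator_mono le_top le_top
    exact hle (Subgroup.mem_map_of_mem _ hg)
  rw [Chev.Ortho.commutator_eq (show 3 ≤ m + 1 by omega)] at h1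
  have hle : Chev.Ortho.E (W a b) (m + 1) 0 ≤ (EK m a b hm h2).σ.range := by
    rw [Chev.Ortho.E, Subgroup.closure_le]
    rintro _ ⟨p, q, h, t, -, -, rfl⟩
    exact (EK m a b hm h2).el_mem p q h t
  obtain ⟨s, hs⟩ := hle h1
  exact ⟨s, hs.symm⟩

theorem G1_eq {x : GM m a b × Spin.G (W a b) (m + 1)} (hx : x ∈ G1 m a b hm h2) :
    iota h2 x.1 = (EK m a b hm h2).σ x.2 := hx

theorem G1_ker {x : GM m a b × Spin.G (W a b) (m + 1)} (hx : x ∈ G1 m a b hm h2) (h1 : x.1 = 1)
    (y : GM m a b × Spin.G (W a b) (m + 1)) : y * x = x * y := by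
  have hs : (EK m a b hm h2).σ x.2 = 1 := by rw [← G1_eq hm h2 hx, h1, map_one]
  refine Prod.ext ?_ ?_
  · rw [Prod.fst_mul, Prod.fst_mul, h1, mul_one, one_mul]
  · exact Subgroup.mem_center_iff.1 ((EK m a b hm h2).central hs) _

theorem exists_el (p q : I) (h : Ok p q) (t : F) :
    ∃ x : G1 m a b hm h2, x.1.1 = emb (el h t) := by
  obtain ⟨s, hs⟩ := exists_spin hm h2 ((omega_eq (a := a) (b := b) hm).ge (el_mem_Eg h t))
  exact ⟨⟨_, hs⟩, rfl⟩

theorem exists_sh (p : I) (z : W a b) : ∃ x : G1 m a b hm h2, x.1.1 = sh p z := by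
  obtain ⟨s, hs⟩ := exists_spin hm h2 ((omega_eq hm).ge (sh_mem_Eg p z))
  exact ⟨⟨_, hs⟩, rfl⟩

attribute [irreducible] G1

variable (m a b) in
/-- The extension on the pullback. -/
noncomputable def B1 : BMExt m a b (G1 m a b hm h2) where
  σ := (MonoidHom.fst _ _).comp (G1 m a b hm h2).subtype
  central := fun x hx => Subgroup.mem_center_iff.2 fun y => Subtype.ext (G1_ker hm h2 x.2 hx y.1)
  el_mem p q h t := exists_el hm h2 p q h t
  sh_mem p z := exists_sh hm h2 p z
  three := hm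

variable (m a b) in
/-- The double cover. -/
abbrev G0 : Type u := (B1 m a b hm h2).GB

variable (m a b) in
/-- The extension on the double cover. -/
noncomputable def B0 : BMExt m a b (G0 m a b hm h2) := subExt (B1 m a b hm h2)

theorem perfect0 : commutator (G0 m a b hm h2) = ⊤ := perfect_GB _

variable (m a b) in
/-- The spin component. -/
noncomputable def spn : G0 m a b hm h2 →* Spin.G (W a b) (m + 1) :=
  ((MonoidHom.snd _ _).comp (G1 m a b hm h2).subtype).comp (B1 m a b hm h2).GB.subtype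

theorem σ_spn (x : G0 m a b hm h2) :
    (EK m a b hm h2).σ (spn m a b hm h2 x) = iota h2 ((B0 m a b hm h2).σ x) :=
  (G1_eq hm h2 x.1.2).symm

theorem spn_injective_ker {x : G0 m a b hm h2} (h : spn m a b hm h2 x = 1) : x = 1 := by
  have h1 : iota h2 ((B0 m a b hm h2).σ x) = iota h2 1 := by rw [← σ_spn, h, map_one, map_one]
  exact Subtype.ext (Subtype.ext (Prod.ext (iota_injective h2 h1) h))

theorem zzB0_ne_one : (B0 m a b hm h2).zzB ≠ 1 := by
  intro hz
  have h2' : (2 : W a b) ≠ 0 := (good_W (a := a) (b := b) h2 3).2 rfl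
  obtain ⟨i, j, hij, e⟩ := map_zz_ext h2 (EK m a b hm h2) (B0 m a b hm h2) (spn m a b hm h2) (σ_spn hm h2)
  rw [hz, map_one, EK] at e
  exact Spin.hh_ne_one (n := m + 1) (by omega) (good_W h2 _) h2' hij e.symm

end Cover

end Cfsg.Agent.DMult.Minus
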