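import Cfsg.Agent.DMult.Minus.Kernel
import Cfsg.Agent.Classical.OrthPOmega
import Cfsg.Agent.Classical.OrthBlocks

/-!
The long and short root elements generate the minus-type `Ω`.
-/

set_option autoImplicit false
set_option linter.unusedSectionVars false
set_option linter.unusedSimpArgs false

open Matrix
open scoped commutatorElement

namespace Cfsg.Agent.DMult.Minus

open Chev.Ortho
open CurtisTitsD (ok_of_lev lev_ne_of_ok el_congr)
open Classical.Quad QuadraticMap

universe u

variable {F : Type u} [Field F] {m : ℕ} {a b : F}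

local notation "I" => Fin m ⊕ Fin m
local notation "V" => (Fin m ⊕ Fin m) ⊕ Fin 2 → F

variable (m a b) in
/-- The form as a quadratic map. -/
noncomputable def Qm : QuadraticForm F ((Fin m ⊕ Fin m) ⊕ Fin 2 → F) :=
  (hyp (binForm a b) m).comp (minusCoord m).toLinearMap

theorem coe_Qm : ⇑(Qm m a b) = Cfsg.quadFormMinus m F a b := funext fun x => minusCoord_map a b m x

theorem nondeg_Qm [Finite F] [hab : Fact (Aniso a b)] : (polarBilin (Qm m a b)).Nondegenerate :=
  Iso.nondeg (Iso.symm ⟨minusCoord m, fun _ => rfl⟩) (nondeg_hyp (nondeg_binForm hab.out) m)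

theorem finrank_V : Module.finrank F ((Fin m ⊕ Fin m) ⊕ Fin 2 → F) = m + m + 2 := by simp

theorem Qm_eq (v : V) : Qm m a b v = plusQ F m (hy v) + (wp a b v).norm := by
  rw [coe_Qm, Q_eq, coe_plusQ]

theorem polar_Qm (v w : V) :
    polar (Qm m a b) v w = polar (plusQ F m) (hy v) (hy w) + Bp (wp a b v) (wp a b w) := by
  simp only [polar, Qm_eq, wp_add, N_add, show hy (v + w) = hy v + hy w from rfl]
  ring

theorem polar_plusQ_single (x : I → F) (y : I) (t : F) :
    polar (plusQ F m) x (Pi.single y t) = x (bar y) * t := by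
  rw [polar_plusQ]
  rcases y with j | j <;> simp [Pi.single_apply, bar, Finset.sum_add_distrib, mul_comm]

/-- A singular basis vector. -/
def bvec (p : Fin m ⊕ Fin m) : (Fin m ⊕ Fin m) ⊕ Fin 2 → F := vmk (Pi.single p 1) (0 : W a b)

theorem hy_bvec (p : I) : hy (bvec (a := a) (b := b) p) = Pi.single p 1 := rfl

theorem wp_bvec (p : I) : wp a b (bvec (a := a) (b := b) p) = 0 := rfl

theorem Qm_bvec (p : I) : Qm m a b (bvec (a := a) (b := b) p) = 0 := by
  rw [Qm_eq, hy_bvec, wp_bvec, plusQ_single, QuadraticAlgebra.norm_zero, add_zero]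

theorem polar_bvec (v : V) (p : I) : polar (Qm m a b) v (bvec (a := a) (b := b) p) = hy v (bar p) := by
  rw [polar_Qm, hy_bvec, wp_bvec, polar_plusQ_single, mul_one]
  simp [Bp]

variable (m a b) in
/-- The map to the abstract isometry group. -/
noncomputable def toO : GM m a b ≃* oG (Qm m a b) :=
  (MulEquiv.subgroupCongr (by rw [GM, coe_Qm])).trans (oEquiv (Qm m a b))

theorem toO_apply (g : GM m a b) (v : V) : (toO m a b g).1 v = gact g v := rfl

variable (m a b) in
/-- The group of root elements. -/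
def Eg : Subgroup (GM m a b) :=
  Subgroup.closure {x | (∃ (p q : Fin m ⊕ Fin m) (h : Ok p q) (t : F), emb (el h t) = x) ∨ ∃ p z, sh p z = x}

theorem el_mem_Eg {p q : I} (h : Ok p q) (t : F) : emb (el h t) ∈ Eg m a b :=
  Subgroup.subset_closure (Or.inl ⟨p, q, h, t, rfl⟩)

theorem sh_mem_Eg (p : I) (z : W a b) : sh p z ∈ Eg m a b :=
  Subgroup.subset_closure (Or.inr ⟨p, z, rfl⟩)

theorem sO_bvec_mem [Finite F] [hab : Fact (Aniso a b)] (p : I) {w : V}
    (hp : Qm m a b (bvec (a := a) (b := b) p) = 0) (hw : polar (Qm m a b) (bvec (a := a) (b := b) p) w = 0) :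
    sO hp hw ∈ (Eg m a b).map (toO m a b).toMonoidHom := by
  classical
  set e : V := bvec (a := a) (b := b) p with he
  set H := (Eg m a b).map (toO m a b).toMonoidHom
  have hb : ∀ v : V, polar (Qm m a b) v e = hy v (bar p) := fun v => polar_bvec v p
  have hw' : hy w (bar p) = 0 := by rw [← hb, polar_comm]; exact hw
  have hP : ∀ (y : I), y ≠ bar p → ∀ t : F, ∀ h : polar (Qm m a b) e (t • bvec (a := a) (b := b) y) = 0,
      sO hp h ∈ H := by
    intro y hy' t h
    by_cases hyp : y = p
    · subst hyp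
      exact (sO_smul_self hp t h) ▸ one_mem _
    have hok : Ok p y := ⟨Ne.symm hyp, hy'⟩
    refine ⟨emb (el hok t), el_mem_Eg hok t, ext_oG fun v => ?_⟩
    rw [MulEquiv.coe_toMonoidHom, toO_apply, sO_apply, polar_smul_right, polar_bvec, hb]
    refine vec_ext (a := a) (b := b) (fun i => ?_) ?_
    · simp only [hy_el, hy_add, hy_smul, he, hy_bvec, Pi.single_apply, smul_eq_mul, Classical.Quad.map_smul', Qm_bvec]
      split_ifs <;> ring
    · simp only [wp_emb, wp_add, wp_smul, he, wp_bvec, smul_zero, add_zero]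
  have hperp : ∀ y, y ≠ bar p → ∀ t : F, polar (Qm m a b) e (t • bvec (a := a) (b := b) y) = 0 := fun y hy' t => by
    rw [polar_smul_right, polar_bvec, he, hy_bvec,
      Pi.single_eq_of_ne (fun e' => hy' (by rw [← e', bar_bar])), smul_zero]
  have hplane : ∀ z : W a b, ∀ h : polar (Qm m a b) e (vmk 0 z) = 0, sO hp h ∈ H := by
    intro z h
    refine ⟨sh p (-z), sh_mem_Eg _ _, ext_oG fun v => ?_⟩
    rw [MulEquiv.coe_toMonoidHom, toO_apply, sO_apply, hb, polar_Qm, Qm_eq]
    have e1 : ∀ x : I → F, polar (plusQ F m) x (0 : I → F) = 0 := fun x => by simp [polar_plusQ]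
    refine vec_ext (a := a) (b := b) (fun i => ?_) ?_
    · simp only [hy_sh, hy_add, hy_smul, he, hy_bvec, hy_vmk, wp_vmk, e1, Pi.single_apply, Pi.zero_apply, map_zero,
        QuadraticAlgebra.norm_neg, show Bp (-z) (wp a b v) = -Bp (wp a b v) z by simp only [Bp, QuadraticAlgebra.re_neg, QuadraticAlgebra.im_neg]; ring]
      split_ifs <;> ring
    · simp only [wp_sh, wp_add, wp_smul, he, wp_bvec, wp_vmk, smul_zero, add_zero]
      module
  have hsum : ∀ s : Finset I, bar p ∉ s →
      ∀ h : polar (Qm m a b) e (∑ y ∈ s, hy w y • bvec (a := a) (b := b) y) = 0, sO hp h ∈ H := by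
    intro s
    induction s using Finset.induction_on with
    | empty => intro _ h; rw [sO_congr hp h (by simp [polar]) Finset.sum_empty, sO_zero]; exact one_mem _
    | insert y s hys ih =>
      intro hns h
      simp only [Finset.mem_insert, not_or] at hns
      have h1 := hperp y (Ne.symm hns.1) (hy w y)
      have h2 : polar (Qm m a b) e (∑ y ∈ s, Minus.hy w y • bvec (a := a) (b := b) y) = 0 := by
        rwa [Finset.sum_insert hys, polar_add_right, h1, zero_add] at h
      rw [sO_congr hp h (polar_perp_add h1 h2) (Finset.sum_insert hys), ← sO_mul hp h1 h2]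
      exact mul_mem (hP y (Ne.symm hns.1) _ h1) (ih hns.2 h2)
  have hdec : w = (∑ y ∈ (Finset.univ.erase (bar p)), hy w y • bvec (a := a) (b := b) y) + vmk 0 (wp a b w) := by
    rw [Finset.sum_erase _ (by rw [hw', zero_smul])]
    refine vec_ext (a := a) (b := b) (fun i => ?_) ?_
    · rw [hy_add, hy_vmk, Pi.zero_apply, add_zero]
      show hy w i = (∑ y, hy w y • bvec (a := a) (b := b) y) (Sum.inl i)
      rw [Finset.sum_apply, Finset.sum_eq_single i (fun y _ hne => ?_) (by simp)]
      · simp [bvec, vmk]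
      · simp [bvec, vmk, Pi.single_eq_of_ne (Ne.symm hne)]
    · have hwp : ∀ s : Finset I, wp a b (∑ y ∈ s, hy w y • bvec (a := a) (b := b) y) = 0 := fun s => by
        induction s using Finset.induction_on with
        | empty => rfl
        | insert y s hys ih => rw [Finset.sum_insert hys, wp_add, wp_smul, wp_bvec, smul_zero, zero_add, ih]
      rw [wp_add, wp_vmk, hwp, zero_add]
  have h2 : polar (Qm m a b) e (vmk 0 (wp a b w)) = 0 := by
    rw [polar_Qm, he, hy_bvec, wp_bvec, hy_vmk, wp_vmk]
    simp [polar_plusQ, Bp]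
  have h1 : polar (Qm m a b) e (∑ y ∈ (Finset.univ.erase (bar p)), hy w y • bvec (a := a) (b := b) y) = 0 := by
    have := hw
    rwa [hdec, polar_add_right, h2, add_zero] at this
  rw [sO_congr hp hw (polar_perp_add h1 h2) hdec, ← sO_mul hp h1 h2]
  exact mul_mem (hsum _ (by simp) h1) (hplane _ h2)

theorem eo_le [Finite F] [hab : Fact (Aniso a b)] : eo (Qm m a b) ≤ (Eg m a b).map (toO m a b).toMonoidHom := by
  refine (Subgroup.closure_le _).2 ?_
  rintro _ ⟨p, w, hp, hpw, rfl⟩
  by_cases hp0 : p = 0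
  · have e : sO hp hpw = 1 := ext_oG fun x => by rw [sO_apply, oG_one_apply, hp0]; simp [polar]
    exact e ▸ one_mem _
  obtain ⟨x, hx⟩ : ∃ x : I, hy p (bar x) ≠ 0 := by
    by_contra hc
    push Not at hc
    have h0 : hy p = 0 := funext fun i => by simpa [bar_bar] using hc (bar i)
    rw [Qm_eq, h0, map_zero, zero_add] at hp
    exact hp0 (vec_ext (a := a) (b := b) (fun i => congrFun h0 i) (by rw [N_eq_zero hp]; rfl))
  set c := hy p (bar x) with hc
  set e : V := bvec (a := a) (b := b) x with he
  set f : V := bvec (a := a) (b := b) (bar x) with hf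
  have hef : polar (Qm m a b) e f = 1 := by rw [he, hf, polar_bvec, bar_bar, hy_bvec, Pi.single_eq_same]
  have hp1 : Qm m a b (c⁻¹ • p) = 0 := by rw [Classical.Quad.map_smul', hp, mul_zero]
  have hep : polar (Qm m a b) e (c⁻¹ • p) = 1 := by
    rw [polar_smul_right, polar_comm, he, polar_bvec, smul_eq_mul, ← hc, inv_mul_cancel₀ hx]
  obtain ⟨h, -, hg⟩ := sO_partner (Q := Qm m a b) (e := e) (Qm_bvec x) hp1 hep (Qm_bvec (bar x)) hef
  have hgm : sO (Qm_bvec x) h ∈ (Eg m a b).map (toO m a b).toMonoidHom := sO_bvec_mem x _ _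
  set g := sO (Qm_bvec x) h
  have hgp : g.1 p = c • f := by
    rw [hf, ← hg, map_smul, smul_smul, mul_inv_cancel₀ hx, one_smul]
  have key : g * sO hp hpw * g⁻¹ ∈ (Eg m a b).map (toO m a b).toMonoidHom := by
    rw [conj_sO, sO_left_congr _ _ (p' := c • f) (by rw [hf, Classical.Quad.map_smul', Qm_bvec, mul_zero])
      (by rw [← hgp, polar_oG]; exact hpw) hgp,
      sO_smul_left (Qm_bvec (bar x)) (by
        have := hpw
        rw [← polar_oG g, hgp, polar_smul_left, smul_eq_mul] at this
        exact (mul_eq_zero.1 this).resolve_left hx) c]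
    exact sO_bvec_mem (bar x) _ _
  have := mul_mem (mul_mem (inv_mem hgm) key) hgm
  rwa [show g⁻¹ * (g * sO hp hpw * g⁻¹) * g = sO hp hpw by group] at this

/-- `Ω` is the group of root elements. -/
theorem omega_eq [Finite F] [hab : Fact (Aniso a b)] (hm : 3 ≤ m) : commutator (GM m a b) = Eg m a b := by
  refine le_antisymm ?_ ((Subgroup.closure_le _).2 ?_)
  · have hmap : (commutator (GM m a b)).map (toO m a b).toMonoidHom = commutator (oG (Qm m a b)) := by
      rw [commutator_def, Subgroup.map_commutator, Subgroup.map_top_of_surjective _ (toO m a b).surjective,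
        ← commutator_def]
    intro x hx
    have h1 : toO m a b x ∈ commutator (oG (Qm m a b)) := hmap ▸ Subgroup.mem_map_of_mem _ hx
    rw [← eo_eq_commutator nondeg_Qm (by rw [finrank_V]; omega) (Or.inr (by rw [finrank_V]; omega))] at h1
    obtain ⟨y, hy, e⟩ := eo_le h1
    rwa [← (toO m a b).injective e]
  · have hel : ∀ {p q : I} (h : Ok p q) (t : F), emb (el h t) ∈ commutator (GM m a b) := fun {p q} h t => by
      obtain ⟨w, hw⟩ := exists_pair (a := a) (b := b)
      have e := sh_rel (a := a) (b := b) (lev_ne_of_ok h) (t • (1 : W a b)) w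
      rw [Bp_smul_left, hw, mul_neg_one, neg_neg] at e
      rw [← e]
      exact Subgroup.commutator_mem_commutator (Subgroup.mem_top _) (Subgroup.mem_top _)
    rintro _ (⟨p, q, h, t, rfl⟩ | ⟨p, z, rfl⟩)
    · exact hel h t
    · obtain ⟨q, hq, -⟩ := third hm p p
      have e := el_sh_rel (a := a) (b := b) (show lev p ≠ lev q from hq.symm) 1 z
      rw [one_smul, one_mul] at e
      rw [show sh p z = ⁅emb (a := a) (b := b) (el (ok_of_lev (show lev p ≠ lev (bar q) by
        rw [lev_bar]; exact hq.symm)) (1 : F)), sh q z⁆ * (emb (el (ok_of_lev hq.symm) z.norm))⁻¹ by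
          rw [e, mul_inv_cancel_right]]
      exact mul_mem (Subgroup.commutator_mem_commutator (Subgroup.mem_top _) (Subgroup.mem_top _))
        (inv_mem (hel _ _))

end Cfsg.Agent.DMult.Minus
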