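import Cfsg.Agent.DMult.Main
import Cfsg.Agent.DMult.Minus.Generate
import Cfsg.Agent.AutPOmega.Lang

/-!
The minus-type group inside the split group over the quadratic extension, and a double cover of its `Ω`
pulled back from the spin group there.
-/

set_option autoImplicit false
set_option linter.unusedSectionVars false
set_option linter.unusedSimpArgs false

open Matrix
open scoped commutatorElement

namespace Cfsg.Agent.DMult.Spin

open Chev.Ortho

universe u

variable {F : Type u} [Field F] [Fintype F] {n : ℕ} (h4 : 3 ≤ n)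
  (hg : (n = 4 → Nat.card F ≠ 2) ∧ (n = 3 → (2 : F) ≠ 0))

local notation "I" => Fin n ⊕ Fin n

/-- The torus commutator of any two levels acts as `-1` on the vacuum. -/
theorem hh_ne_one (h2 : (2 : F) ≠ 0) {i j : Fin n} (hij : i ≠ j) :
    DMult.h (ext F h4 hg) (Sum.inl i) (Sum.inr j) (-1) * DMult.h (ext F h4 hg) (Sum.inl i) (Sum.inl j) (-1) ≠ 1 := by
  intro hz
  set E := ext F h4 hg
  set P : I := Sum.inl i
  set Q : I := Sum.inl j
  have hPQ : lev P ≠ lev Q := fun e => hij (Fin.ext e)
  have hPQ' : lev P ≠ lev (bar Q) := by rwa [lev_bar]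
  have hb : ∀ k : Fin n, γ (Sum.inr k) (1 : Sp F n) = 0 := fun k => by
    rw [γ_inr]; exact CliffordAlgebra.contractLeft_one _ _
  have happ : ∀ x y : Fin n ⊕ Fin n, ∀ v, N x y v = γ x (γ y v : Sp F n) := fun _ _ _ => rfl
  have hbb : ∀ (x : I) (v : Sp F n), γ x (γ x v) = 0 := fun x v => by
    rw [← Module.End.mul_apply, γ_sq]; rfl
  have hsw : ∀ {x y : I}, lev x ≠ lev y → ∀ v : Sp F n, γ y (γ x v) = - γ x (γ y v) := fun h v => by
    rw [← Module.End.mul_apply, anti h]; rfl
  have hcr : ∀ (x : I) (v : Sp F n), γ (bar x) v = 0 → γ (bar x) (γ x v) = v := fun x v h0 => by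
    have := LinearMap.congr_fun (car (F := F) (bar x) x) v
    rw [if_pos (bar_bar x).symm] at this
    simpa [h0] using this
  have bP : γ (bar P) (1 : Sp F n) = 0 := hb _
  have bQ : γ (bar Q) (1 : Sp F n) = 0 := hb _
  set D : Sp F n := γ P (γ Q 1) with hD
  have q2 : γ (bar Q) D = - γ P 1 := by
    rw [hD, hsw hPQ', hcr _ _ bQ]
  have n2 : N (bar P) (bar Q) D = -(1 : Sp F n) := by
    rw [happ, q2, map_neg, hcr _ _ bP]
  have n0 : N (bar P) (bar Q) (1 : Sp F n) = 0 := by rw [happ, bQ, map_zero]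
  have n1 : N P Q (1 : Sp F n) = D := rfl
  have n3 : N P Q D = 0 := by rw [happ, hD, hsw hPQ, map_neg, hbb, neg_zero]
  have w1 : ((w E P Q (-1)).1.2 : Module.End F (Sp F n)) (1 : Sp F n) = -D := by
    rw [wv h4 hg hPQ]
    simp only [LinearMap.add_apply, LinearMap.smul_apply, Module.End.one_apply, map_add, map_neg, map_smul,
      n0, n1, n2, n3, inv_neg, inv_one, neg_one_smul, neg_neg, neg_zero, smul_zero, add_zero, zero_add]
    abel
  have w2 : ((w E P Q (-1)).1.2 : Module.End F (Sp F n)) D = 1 := by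
    rw [wv h4 hg hPQ]
    simp only [LinearMap.add_apply, LinearMap.smul_apply, Module.End.one_apply, map_add, map_neg, map_smul,
      n0, n1, n2, n3, inv_neg, inv_one, neg_one_smul, neg_neg, neg_zero, smul_zero, add_zero, zero_add]
    abel
  have w3 : ((w E P (bar Q) (-1)).1.2 : Module.End F (Sp F n)) (1 : Sp F n) = 1 := by
    have e1 : N P (bar Q) (1 : Sp F n) = 0 := by rw [happ, bQ, map_zero]
    have e2 : N (bar P) Q (1 : Sp F n) = 0 := by
      rw [happ, hsw (x := Q) (y := bar P) (by rw [lev_bar]; exact hPQ.symm), bP, map_zero, neg_zero]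
    rw [wv h4 hg hPQ']
    simp [LinearMap.add_apply, LinearMap.smul_apply, e1, e2]
  have key : ((DMult.h E P (bar Q) (-1) * DMult.h E P Q (-1)).1.2 : Module.End F (Sp F n)) 1 = -1 := by
    rw [DMult.h, DMult.h]
    simp only [Subgroup.coe_mul, Prod.snd_mul, Units.val_mul, Module.End.mul_apply]
    rw [w1, map_neg, w2, map_neg, map_neg, w3, w3]
  rw [show bar Q = Sum.inr j from rfl, hz] at key
  have h3 : ((2 : F) • (1 : Sp F n)) = 0 := by
    rw [two_smul]
    nth_rewrite 2 [show (1 : Sp F n) = -1 from key]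
    exact add_neg_cancel _
  exact h2 ((smul_eq_zero.1 h3).resolve_right one_ne_zero)

end Cfsg.Agent.DMult.Spin

namespace Cfsg.Agent.DMult.Minus

open Chev.Ortho
open CurtisTitsD (ok_of_lev lev_ne_of_ok el_congr)
open Classical.Quad (plusQ coe_plusQ plusQ_apply)

universe u

variable {F : Type u} [Field F] {m : ℕ} {a b : F} [hab : Fact (Aniso a b)]

local notation "I" => Fin m ⊕ Fin m
local notation "V" => (Fin m ⊕ Fin m) ⊕ Fin 2 → F
local notation "K" => W a b
local notation "I'" => Fin (m + 1) ⊕ Fin (m + 1)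

/-- The root `ω` of the defining polynomial. -/
def om : W a b := ⟨0, 1⟩

/-- The inclusion of indices. -/
def jI {m : ℕ} : Fin m ⊕ Fin m → Fin (m + 1) ⊕ Fin (m + 1) := Sum.map Fin.castSucc Fin.castSucc

theorem jI_bar (p : I) : jI (bar p) = bar (jI p) := by cases p <;> rfl

theorem lev_jI (p : I) : lev (jI p) = lev p := by cases p <;> rfl

theorem jI_injective : Function.Injective (jI (m := m)) :=
  Sum.map_injective.2 ⟨Fin.castSucc_injective m, Fin.castSucc_injective m⟩

theorem disc_ne (h2 : (2 : F) ≠ 0) : (om : W a b) - star om ≠ 0 := fun e => by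
  have := congrArg QuadraticAlgebra.im e
  simp [om] at this
  exact h2 (by linear_combination this)

variable (m) in
/-- The coordinates in the split space over the extension. -/
noncomputable def T (h2 : (2 : F) ≠ 0) :
    ((Fin m ⊕ Fin m) ⊕ Fin 2 → W a b) ≃ₗ[W a b] (Fin (m + 1) ⊕ Fin (m + 1) → W a b) where
  toFun u := Sum.elim (Fin.lastCases (u (.inr 0) + om * u (.inr 1)) fun i => u (.inl (.inl i)))
    (Fin.lastCases (u (.inr 0) + star om * u (.inr 1)) fun i => u (.inl (.inr i)))
  map_add' u v := by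
    funext x
    rcases x with x | x <;> induction x using Fin.lastCases with
    | last => simp [mul_add]; ring
    | cast i => simp
  map_smul' t u := by
    funext x
    rcases x with x | x <;> induction x using Fin.lastCases with
    | last => simp [mul_add]; ring
    | cast i => simp
  invFun x := Sum.elim (fun j => x (jI j))
    ![x (.inl (Fin.last m)) - om * ((x (.inl (Fin.last m)) - x (.inr (Fin.last m))) / (om - star om)),
      (x (.inl (Fin.last m)) - x (.inr (Fin.last m))) / (om - star om)]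
  left_inv u := by
    have hd := disc_ne (a := a) (b := b) h2
    funext x
    rcases x with x | x
    · rcases x with i | i <;> simp [jI]
    · have e : (om * u (.inr 1) - star om * u (.inr 1)) / (om - star om) = u (.inr 1) := by
        rw [div_eq_iff hd]; ring
      fin_cases x <;> simp [e]
  right_inv x := by
    have hd := disc_ne (a := a) (b := b) h2
    funext y
    rcases y with y | y <;> induction y using Fin.lastCases with
    | last =>
      simp only [Sum.elim_inl, Sum.elim_inr, Fin.lastCases_last, Matrix.cons_val_zero, Matrix.cons_val_one]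
      field_simp
      ring
    | cast i => simp [jI]

theorem T_inl (h2 : (2 : F) ≠ 0) (u : (Fin m ⊕ Fin m) ⊕ Fin 2 → W a b) (p : I) :
    T m h2 u (jI p) = u (.inl p) := by
  rcases p with i | i <;> simp [T, jI]

variable (a b) in
/-- A vector over the base field seen over the extension. -/
def castV (v : (Fin m ⊕ Fin m) ⊕ Fin 2 → F) : (Fin m ⊕ Fin m) ⊕ Fin 2 → W a b :=
  fun j => algebraMap F (W a b) (v j)

theorem T_castV_last (h2 : (2 : F) ≠ 0) (v : V) :
    T m h2 (castV a b v) (.inl (Fin.last m)) = wp a b v ∧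
      T m h2 (castV a b v) (.inr (Fin.last m)) = star (wp a b v) := by
  constructor <;> simp [T, castV, om, wp, QuadraticAlgebra.algebraMap_eq] <;> ext <;> simp <;> ring

theorem Q_T_castV (h2 : (2 : F) ≠ 0) (v : V) :
    plusQ (W a b) (m + 1) (T m h2 (castV a b v)) = algebraMap F (W a b) (Qm m a b v) := by
  rw [plusQ_apply, Fin.sum_univ_castSucc, (T_castV_last h2 v).1, (T_castV_last h2 v).2, mul_star_self,
    Qm_eq, plusQ_apply, map_add, map_sum]
  congr 1
  refine Finset.sum_congr rfl fun i _ => ?_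
  rw [map_mul, show (Sum.inl i.castSucc : I') = jI (Sum.inl i) from rfl,
    show (Sum.inr i.castSucc : I') = jI (Sum.inr i) from rfl, T_inl, T_inl]
  rfl

/-- Linear maps that agree on the vectors over the base field agree. -/
theorem lin_ext_sub {M : Type*} [AddCommGroup M] [Module (W a b) M]
    {f g : ((Fin m ⊕ Fin m) ⊕ Fin 2 → W a b) →ₗ[W a b] M}
    (h : ∀ v, f (castV a b v) = g (castV a b v)) : f = g := by
  refine (Pi.basisFun (W a b) _).ext fun j => ?_
  rw [Pi.basisFun_apply, show (Pi.single j 1 : (Fin m ⊕ Fin m) ⊕ Fin 2 → W a b) = castV a b (Pi.single j 1) by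
    funext l; by_cases hl : l = j <;> simp [castV, hl]]
  exact h _

/-- Two elements agreeing on the image of the base field agree. -/
theorem ext_T (h2 : (2 : F) ≠ 0) {g h : OG (W a b) (m + 1)}
    (e : ∀ v, Chev.Ortho.act g (T m h2 (castV a b v)) = Chev.Ortho.act h (T m h2 (castV a b v))) : g = h := by
  refine Chev.Ortho.ext_act fun x => ?_
  obtain ⟨u, rfl⟩ := (T m h2).surjective x
  have := lin_ext_sub (f := (Matrix.toLin' g.1.1).comp (T m h2).toLinearMap)
    (g := (Matrix.toLin' h.1.1).comp (T m h2).toLinearMap) e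
  exact LinearMap.congr_fun this u

/-- The linear map over the extension. -/
noncomputable def iotaLin (h2 : (2 : F) ≠ 0) (g : GM m a b) :
    (Fin (m + 1) ⊕ Fin (m + 1) → W a b) →ₗ[W a b] (Fin (m + 1) ⊕ Fin (m + 1) → W a b) :=
  (T m h2).toLinearMap.comp ((Matrix.toLin' ((g.1 : Matrix _ _ F).map (algebraMap F (W a b)))).comp
    (T m h2).symm.toLinearMap)

theorem iotaLin_T (h2 : (2 : F) ≠ 0) (g : GM m a b) (v : V) :
    iotaLin h2 g (T m h2 (castV a b v)) = T m h2 (castV a b (gact g v)) := by
  simp only [iotaLin, LinearMap.comp_apply, LinearEquiv.coe_coe, LinearEquiv.symm_apply_apply,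
    Matrix.toLin'_apply]
  exact congrArg (T m h2) (AutPOmega.mulVec_map_apply (algebraMap F (W a b)) _ v)

theorem iotaLin_mul (h2 : (2 : F) ≠ 0) (g h : GM m a b) (x : I' → W a b) :
    iotaLin h2 (g * h) x = iotaLin h2 g (iotaLin h2 h x) := by
  simp only [iotaLin, LinearMap.comp_apply, LinearEquiv.coe_coe, LinearEquiv.symm_apply_apply,
    Matrix.toLin'_apply, Matrix.mulVec_mulVec, Subgroup.coe_mul, Units.val_mul, Matrix.map_mul]

theorem iotaLin_one (h2 : (2 : F) ≠ 0) (x : I' → W a b) : iotaLin h2 (1 : GM m a b) x = x := by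
  simp [iotaLin]

theorem iotaLin_Q (h2 : (2 : F) ≠ 0) (g : GM m a b) (x : I' → W a b) :
    plusQ (W a b) (m + 1) (iotaLin h2 g x) = plusQ (W a b) (m + 1) x := by
  obtain ⟨u, rfl⟩ := (T m h2).surjective x
  have h := AutPOmega.qf_ext_sub (algebraMap F (W a b))
    (Q₁ := (plusQ (W a b) (m + 1)).comp ((iotaLin h2 g).comp (T m h2).toLinearMap))
    (Q₂ := (plusQ (W a b) (m + 1)).comp (T m h2).toLinearMap) fun v => by
      rw [QuadraticMap.comp_apply, QuadraticMap.comp_apply, LinearMap.comp_apply, LinearEquiv.coe_coe,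
        show (fun j => algebraMap F (W a b) (v j)) = castV a b v from rfl, iotaLin_T, Q_T_castV, Q_T_castV]
      congr 1
      rw [coe_Qm]
      exact g.2 v 0
  have h' := DFunLike.congr_fun h u
  simp only [QuadraticMap.comp_apply, LinearMap.comp_apply, LinearEquiv.coe_coe] at h'
  exact h'

/-- The matrix unit over the extension. -/
noncomputable def iotaU (h2 : (2 : F) ≠ 0) (g : GM m a b) : GL (Fin (m + 1) ⊕ Fin (m + 1)) (W a b) :=
  ⟨LinearMap.toMatrix' (iotaLin h2 g), LinearMap.toMatrix' (iotaLin h2 g⁻¹),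
    by rw [← LinearMap.toMatrix'_comp, ← LinearMap.toMatrix'_id]
       exact congrArg _ (LinearMap.ext fun x => by
         rw [LinearMap.comp_apply, ← iotaLin_mul, mul_inv_cancel, iotaLin_one, LinearMap.id_apply]),
    by rw [← LinearMap.toMatrix'_comp, ← LinearMap.toMatrix'_id]
       exact congrArg _ (LinearMap.ext fun x => by
         rw [LinearMap.comp_apply, ← iotaLin_mul, inv_mul_cancel, iotaLin_one, LinearMap.id_apply])⟩

theorem iotaU_mulVec (h2 : (2 : F) ≠ 0) (g : GM m a b) (x : I' → W a b) :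
    (iotaU h2 g : Matrix _ _ (W a b)) *ᵥ x = iotaLin h2 g x := LinearMap.toMatrix'_mulVec _ x

theorem iotaU_mem (h2 : (2 : F) ≠ 0) (g : GM m a b) : iotaU h2 g ∈ OG (W a b) (m + 1) :=
  mem_OG.2 fun x => by rw [iotaU_mulVec, ← coe_plusQ, iotaLin_Q]

theorem act_iotaU (h2 : (2 : F) ≠ 0) (g : GM m a b) (x : I' → W a b) :
    Chev.Ortho.act (⟨iotaU h2 g, iotaU_mem h2 g⟩ : OG (W a b) (m + 1)) x = iotaLin h2 g x := iotaU_mulVec h2 g x

/-- The embedding. -/
noncomputable def iota (h2 : (2 : F) ≠ 0) : GM m a b →* OG (W a b) (m + 1) where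
  toFun g := ⟨iotaU h2 g, iotaU_mem h2 g⟩
  map_one' := Chev.Ortho.ext_act fun x => by rw [act_iotaU, iotaLin_one, Chev.Ortho.act_one]
  map_mul' g h := Chev.Ortho.ext_act fun x => by
    rw [Chev.Ortho.act_mul, act_iotaU, act_iotaU, act_iotaU, iotaLin_mul]

theorem iota_T (h2 : (2 : F) ≠ 0) (g : GM m a b) (v : V) :
    Chev.Ortho.act (iota h2 g) (T m h2 (castV a b v)) = T m h2 (castV a b (gact g v)) :=
  (act_iotaU h2 g _).trans (iotaLin_T h2 g v)

theorem castV_injective : Function.Injective (castV (m := m) a b) := fun v w e =>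
  funext fun j => (algebraMap F (W a b)).injective (congrFun e j)

theorem iota_injective (h2 : (2 : F) ≠ 0) : Function.Injective (iota (m := m) (a := a) (b := b) h2) :=
  fun g h e => ext_gact fun v => castV_injective ((T m h2).injective (by rw [← iota_T, ← iota_T, e]))

theorem ok_jI {p q : I} (h : Ok p q) : Ok (jI p) (jI q) :=
  ok_of_lev (by rw [lev_jI, lev_jI]; exact lev_ne_of_ok h)

theorem iota_el (h2 : (2 : F) ≠ 0) {p q : I} (h : Ok p q) (t : F) :
    iota h2 (emb (a := a) (b := b) (el h t)) = el (ok_jI h) (algebraMap F (W a b) t) := by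
  refine ext_T h2 fun v => ?_
  rw [iota_T]
  funext x
  have hj : ∀ i, T m h2 (castV a b v) (jI i) = algebraMap F (W a b) (hy v i) := fun i => T_inl h2 _ i
  rcases Classical.em (∃ i, jI i = x) with ⟨i, rfl⟩ | hx
  · rw [el_apply, T_inl, castV, show gact (emb (el h t)) v (Sum.inl i) = hy (gact (emb (a := a) (b := b) (el h t)) v) i from rfl,
      hy_el, ← jI_bar, ← jI_bar, hj, hj, hj]
    simp only [jI_injective.eq_iff]
    split_ifs <;> simp [map_add, map_sub, map_mul]
  · rw [el_apply, if_neg (fun e => hx ⟨p, e.symm⟩), if_neg (fun e => hx ⟨q, e.symm⟩), add_zero, sub_zero]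
    have hw := T_castV_last (m := m) (a := a) (b := b) h2
    rcases x with x | x <;> induction x using Fin.lastCases with
    | last => first | rw [(hw _).1, (hw _).1, wp_emb] | rw [(hw _).2, (hw _).2, wp_emb]
    | cast i => exact absurd (by first | exact ⟨Sum.inl i, rfl⟩ | exact ⟨Sum.inr i, rfl⟩) hx

end Cfsg.Agent.DMult.Minus
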