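import Mathlib

/-!
The quadratic extension attached to an anisotropic binary form `z₁² + a z₁ z₂ + b z₂²`, its norm, polar form
and reflections.
-/

set_option autoImplicit false
set_option linter.unusedSectionVars false

namespace Cfsg.Agent.DMult.Minus

universe u

variable {F : Type u} [Field F] (a b : F)

/-- The form is anisotropic. -/
abbrev Aniso : Prop := ∀ z₁ z₂ : F, z₁ ^ 2 + a * z₁ * z₂ + b * z₂ ^ 2 = 0 → z₁ = 0 ∧ z₂ = 0

/-- The plane as an algebra, with `ω² = -b + a ω`. -/
abbrev W : Type u := QuadraticAlgebra F (-b) a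

variable {a b}

instance fact_nonroot [hab : Fact (Aniso a b)] : Fact (∀ r : F, r ^ 2 ≠ -b + a * r) :=
  ⟨fun r h => one_ne_zero (hab.out (-r) 1 (by linear_combination h)).2⟩

instance finite_W [Finite F] : Finite (W a b) := Finite.of_equiv _ (QuadraticAlgebra.equivProd (-b) a).symm

theorem N_apply (z : W a b) : z.norm = z.re ^ 2 + a * z.re * z.im + b * z.im ^ 2 := by
  rw [QuadraticAlgebra.norm_def]; ring

theorem mul_star_self (z : W a b) : z * star z = algebraMap F (W a b) z.norm :=
  (QuadraticAlgebra.algebraMap_norm_eq_mul_star z).symm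

/-- The polar form. -/
def Bp (z w : W a b) : F := 2 * z.re * w.re + a * (z.re * w.im + w.re * z.im) + 2 * b * z.im * w.im

theorem N_add (z w : W a b) : (z + w).norm = z.norm + w.norm + Bp z w := by
  simp only [N_apply, QuadraticAlgebra.re_add, QuadraticAlgebra.im_add, Bp]; ring

theorem Bp_comm (z w : W a b) : Bp z w = Bp w z := by simp only [Bp]; ring

theorem Bp_add_left (z z' w : W a b) : Bp (z + z') w = Bp z w + Bp z' w := by
  simp only [Bp, QuadraticAlgebra.re_add, QuadraticAlgebra.im_add]; ring

theorem Bp_add_right (z w w' : W a b) : Bp z (w + w') = Bp z w + Bp z w' := by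
  simp only [Bp, QuadraticAlgebra.re_add, QuadraticAlgebra.im_add]; ring

theorem Bp_smul_left (t : F) (z w : W a b) : Bp (t • z) w = t * Bp z w := by
  simp only [Bp, QuadraticAlgebra.re_smul, QuadraticAlgebra.im_smul, smul_eq_mul]; ring

theorem Bp_smul_right (t : F) (z w : W a b) : Bp z (t • w) = t * Bp z w := by
  rw [Bp_comm, Bp_smul_left, Bp_comm]

theorem N_smul (t : F) (z : W a b) : (t • z).norm = t ^ 2 * z.norm := by
  simp only [N_apply, QuadraticAlgebra.re_smul, QuadraticAlgebra.im_smul, smul_eq_mul]; ring

theorem Bp_self (z : W a b) : Bp z z = 2 * z.norm := by simp only [Bp, N_apply]; ring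

theorem Bp_eq (z w : W a b) : algebraMap F (W a b) (Bp z w) = z * star w + w * star z := by
  rw [QuadraticAlgebra.algebraMap_eq]
  ext <;> simp [Bp] <;> ring

/-- Multiplication by `μ`, after the involution when `s`. -/
def act (μ : W a b) (s : Bool) (z : W a b) : W a b := μ * bif s then star z else z

theorem act_zero (μ : W a b) (s : Bool) : act μ s 0 = 0 := by cases s <;> simp [act]

theorem act_add (μ : W a b) (s : Bool) (z w : W a b) : act μ s (z + w) = act μ s z + act μ s w := by
  cases s <;> simp [act, mul_add]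

theorem star_smul' (t : F) (z : W a b) : star (t • z) = t • star z := by
  ext <;> simp <;> ring

theorem act_smul (μ : W a b) (s : Bool) (t : F) (z : W a b) : act μ s (t • z) = t • act μ s z := by
  cases s <;> simp [act, star_smul']

theorem act_comp (μ ν : W a b) (s r : Bool) (z : W a b) :
    act μ s (act ν r z) = act (act μ s ν) (s ^^ r) z := by
  cases s <;> cases r <;> simp [act, mul_assoc]

theorem act_one (z : W a b) : act 1 false z = z := by simp [act]

theorem N_act {μ : W a b} (hμ : μ.norm = 1) (s : Bool) (z : W a b) : (act μ s z).norm = z.norm := by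
  cases s <;> simp [act, map_mul, hμ]

theorem Bp_act {μ : W a b} (hμ : μ.norm = 1) (s : Bool) (z w : W a b) :
    Bp (act μ s z) (act μ s w) = Bp z w := by
  have h := N_add (act μ s z) (act μ s w)
  rw [← act_add, N_act hμ, N_act hμ, N_act hμ, N_add z w] at h
  linear_combination -h

section Field

variable [hab : Fact (Aniso a b)]

theorem N_eq_zero {z : W a b} (h : z.norm = 0) : z = 0 := QuadraticAlgebra.norm_eq_zero_iff_eq_zero.1 h

theorem N_ne {z : W a b} (h : z ≠ 0) : z.norm ≠ 0 := mt N_eq_zero h

theorem star_ne {z : W a b} (h : z ≠ 0) : star z ≠ 0 := fun e => h (by rw [← star_star z, e, star_zero])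

include hab in
theorem a_ne_zero [Finite F] (h2 : (2 : F) = 0) : a ≠ 0 := fun ha => by
  have hinj : Function.Injective fun r : F => r * r := fun r s h => by
    have h' : (r - s) * (r - s) = 0 := by linear_combination h + (s * s - r * s) * h2
    exact sub_eq_zero.1 (mul_self_eq_zero.1 h')
  obtain ⟨r, hr⟩ := (Finite.injective_iff_surjective.1 hinj) b
  exact one_ne_zero (hab.out r 1 (by rw [ha]; linear_combination hr + b * h2)).2

/-- A vector pairing to `-1` with `1`. -/
theorem exists_pair [Finite F] : ∃ w : W a b, Bp (1 : W a b) w = -1 := by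
  by_cases h2 : (2 : F) = 0
  · exact ⟨⟨0, -a⁻¹⟩, by simp [Bp, QuadraticAlgebra.re_one, QuadraticAlgebra.im_one, h2, a_ne_zero (a := a) (b := b) h2]⟩
  · exact ⟨⟨-2⁻¹, 0⟩, by simp [Bp, QuadraticAlgebra.re_one, QuadraticAlgebra.im_one, h2]⟩

/-- The reflection in `z`. -/
theorem refl_eq {z : W a b} (hz : z ≠ 0) (u : W a b) :
    u - (Bp u z / z.norm) • z = act (-(z / star z)) true u := by
  have hs := star_ne hz
  have hN := (map_ne_zero (algebraMap F (W a b))).2 (N_ne hz)
  rw [Algebra.smul_def, map_div₀, Bp_eq, ← mul_star_self]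
  simp only [act, cond_true]
  field_simp
  ring

theorem N_div_star {z : W a b} (hz : z ≠ 0) : (z / star z).norm = 1 := by
  have h := map_mul QuadraticAlgebra.norm (z / star z) (star z)
  rw [div_mul_cancel₀ z (star_ne hz), QuadraticAlgebra.norm_star] at h
  exact mul_right_cancel₀ (N_ne hz) (by rw [← h, one_mul])

/-- An element of norm one other than `±1`. -/
theorem exists_kappa [Finite F] : ∃ z : W a b, z.norm = 1 ∧ z * z ≠ 1 := by
  obtain ⟨u, hu0, hu⟩ : ∃ u : W a b, u ≠ 0 ∧ u * u ≠ star u * star u := by
    by_cases ha : a = 0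
    · have h2 : (2 : F) ≠ 0 := fun h2 => a_ne_zero (a := a) (b := b) h2 ha
      exact ⟨⟨1, 1⟩, fun e => one_ne_zero (congrArg QuadraticAlgebra.re e), fun e => by
        have := congrArg QuadraticAlgebra.im e
        simp [ha] at this
        exact mul_ne_zero h2 h2 (by linear_combination this)⟩
    · exact ⟨⟨0, 1⟩, fun e => one_ne_zero (congrArg QuadraticAlgebra.im e), fun e => by
        have := congrArg QuadraticAlgebra.re e
        simp at this
        exact ha this⟩
  refine ⟨u / star u, N_div_star hu0, fun e => hu ?_⟩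
  field_simp [star_ne hu0] at e
  linear_combination e

end Field

end Cfsg.Agent.DMult.Minus
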