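import Cfsg.Agent.DMult.Nat
import Cfsg.Agent.DMult.Minus.Field

/-!
The minus-type orthogonal group on a split space plus an anisotropic plane: embedded split group, short
root elements, their commutation rules and monomial elements.
-/

set_option autoImplicit false
set_option linter.unusedSectionVars false
set_option linter.unusedSimpArgs false

open Matrix
open scoped commutatorElement

namespace Cfsg.Agent.DMult.Minus

open Chev.Ortho
open CurtisTitsD (ok_of_lev lev_ne_of_ok)

universe u

variable {F : Type u} [Field F] (m : ℕ) (a b : F)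

/-- The isometry group. -/
abbrev GM : Subgroup (GL ((Fin m ⊕ Fin m) ⊕ Fin 2) F) := Cfsg.isometryGroup F (Cfsg.quadFormMinus m F a b)

variable {m a b}

local notation "I" => Fin m ⊕ Fin m
local notation "V" => (Fin m ⊕ Fin m) ⊕ Fin 2 → F

/-- The split coordinates. -/
def hy (v : V) : I → F := fun i => v (.inl i)

variable (a b) in
/-- The plane coordinates. -/
def wp (v : V) : W a b := ⟨v (.inr 0), v (.inr 1)⟩

theorem vec_ext {v w : V} (h : ∀ i, hy v i = hy w i) (h' : wp a b v = wp a b w) : v = w := by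
  funext i
  rcases i with i | i
  · exact h i
  · fin_cases i
    · exact congrArg QuadraticAlgebra.re h'
    · exact congrArg QuadraticAlgebra.im h'

/-- A vector from its coordinates. -/
def vmk (x : I → F) (z : W a b) : V := Sum.elim x ![z.re, z.im]

theorem hy_vmk (x : I → F) (z : W a b) : hy (vmk x z) = x := rfl

theorem wp_vmk (x : I → F) (z : W a b) : wp a b (vmk x z) = z := rfl

theorem hy_add (v w : V) (i : I) : hy (v + w) i = hy v i + hy w i := rfl

theorem wp_add (v w : V) : wp a b (v + w) = wp a b v + wp a b w := rfl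

theorem hy_smul (t : F) (v : V) (i : I) : hy (t • v) i = t * hy v i := rfl

theorem wp_smul (t : F) (v : V) : wp a b (t • v) = t • wp a b v := rfl

theorem Q_eq (v : V) : Cfsg.quadFormMinus m F a b v = Cfsg.quadFormPlus m F (hy v) + (wp a b v).norm := by
  rw [N_apply]; rfl

/-- The action. -/
def gact (g : GM m a b) (v : V) : V := (g.1 : Matrix _ _ F) *ᵥ v

theorem gact_mul (g h : GM m a b) (v : V) : gact (g * h) v = gact g (gact h v) := (mulVec_mulVec _ _ _).symm

theorem gact_one (v : V) : gact (1 : GM m a b) v = v := one_mulVec v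

theorem gact_add (g : GM m a b) (v w : V) : gact g (v + w) = gact g v + gact g w := mulVec_add _ _ _

theorem gact_smul (g : GM m a b) (t : F) (v : V) : gact g (t • v) = t • gact g v := mulVec_smul _ _ _

theorem ext_gact {g h : GM m a b} (e : ∀ v, gact g v = gact h v) : g = h :=
  Subtype.ext (Units.ext (Matrix.toLin'.injective (LinearMap.ext fun v => e v)))

theorem ext_coord {g h : GM m a b} (e1 : ∀ v i, hy (gact g v) i = hy (gact h v) i)
    (e2 : ∀ v, wp a b (gact g v) = wp a b (gact h v)) : g = h :=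
  ext_gact fun v => vec_ext (e1 v) (e2 v)

/-- An isometry from mutually inverse linear maps. -/
def mkGM (f g : V →ₗ[F] V) (h1 : ∀ v, f (g v) = v) (h2 : ∀ v, g (f v) = v)
    (h : ∀ v, Cfsg.quadFormMinus m F a b (f v) = Cfsg.quadFormMinus m F a b v) : GM m a b :=
  ⟨⟨LinearMap.toMatrix' f, LinearMap.toMatrix' g,
      by rw [← LinearMap.toMatrix'_comp, ← LinearMap.toMatrix'_id]; exact congrArg _ (LinearMap.ext h1),
      by rw [← LinearMap.toMatrix'_comp, ← LinearMap.toMatrix'_id]; exact congrArg _ (LinearMap.ext h2)⟩,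
    fun u _ => by
      show Cfsg.quadFormMinus m F a b (LinearMap.toMatrix' f *ᵥ u) = _
      rw [LinearMap.toMatrix'_mulVec]; exact h u⟩

theorem gact_mkGM (f g : V →ₗ[F] V) (h1 : ∀ v, f (g v) = v) (h2 : ∀ v, g (f v) = v)
    (h : ∀ v, Cfsg.quadFormMinus m F a b (f v) = Cfsg.quadFormMinus m F a b v) (v : V) :
    gact (mkGM f g h1 h2 h) v = f v := LinearMap.toMatrix'_mulVec f v

/-! ### The embedding of the split group -/

variable (a b) in
/-- The linear map of an embedded element. -/
def embLin (g : OG F m) : V →ₗ[F] V where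
  toFun v := vmk (Chev.Ortho.act g (hy v)) (wp a b v)
  map_add' v w := vec_ext (a := a) (b := b) (fun i => by
    rw [hy_add, hy_vmk, hy_vmk, hy_vmk, show hy (v + w) = hy v + hy w from rfl]
    exact congrFun (mulVec_add _ _ _) i) rfl
  map_smul' t v := vec_ext (a := a) (b := b) (fun i => by
    rw [RingHom.id_apply, hy_smul, hy_vmk, hy_vmk, show hy (t • v) = t • hy v from rfl]
    exact congrFun (mulVec_smul _ _ _) i) rfl

theorem embLin_mul (g h : OG F m) (v : V) :
    embLin a b (g * h) v = embLin a b g (embLin a b h v) := by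
  refine vec_ext (a := a) (b := b) (fun i => ?_) rfl
  show Chev.Ortho.act (g * h) (hy v) i = Chev.Ortho.act g (Chev.Ortho.act h (hy v)) i
  rw [Chev.Ortho.act_mul]

theorem embLin_one (v : V) : embLin a b (1 : OG F m) v = v :=
  vec_ext (a := a) (b := b) (fun i => congrFun (Chev.Ortho.act_one (hy v)) i) rfl

/-- The embedding. -/
def emb : OG F m →* GM m a b where
  toFun g := mkGM (embLin a b g) (embLin a b g⁻¹)
    (fun v => by rw [← embLin_mul, mul_inv_cancel, embLin_one])
    (fun v => by rw [← embLin_mul, inv_mul_cancel, embLin_one])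
    (fun v => by
      rw [Q_eq, Q_eq, show wp a b (embLin a b g v) = wp a b v from rfl,
        show hy (embLin a b g v) = Chev.Ortho.act g (hy v) from rfl, Chev.Ortho.Q_act])
  map_one' := ext_gact fun v => by rw [gact_mkGM, gact_one, embLin_one]
  map_mul' g h := ext_gact fun v => by rw [gact_mul, gact_mkGM, gact_mkGM, gact_mkGM, embLin_mul]

theorem gact_emb (g : OG F m) (v : V) : gact (emb (a := a) (b := b) g) v = embLin a b g v :=
  LinearMap.toMatrix'_mulVec _ v

theorem hy_emb (g : OG F m) (v : V) : hy (gact (emb (a := a) (b := b) g) v) = Chev.Ortho.act g (hy v) := by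
  rw [gact_emb]; rfl

theorem wp_emb (g : OG F m) (v : V) : wp a b (gact (emb (a := a) (b := b) g) v) = wp a b v := by
  rw [gact_emb]; rfl

theorem hy_el {p q : I} (h : Ok p q) (t : F) (v : V) (i : I) :
    hy (gact (emb (a := a) (b := b) (el h t)) v) i = hy v i + (if i = p then t * hy v (bar q) else 0) -
      if i = q then t * hy v (bar p) else 0 := by
  rw [hy_emb, el_apply]

theorem emb_injective : Function.Injective (emb (F := F) (m := m) (a := a) (b := b)) := fun g h e => by
  refine Chev.Ortho.ext_act fun x => funext fun i => ?_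
  have h1 := congrArg (fun k => hy (gact k (vmk x (0 : W a b))) i) e
  simp only [hy_emb, hy_vmk] at h1
  exact h1

/-! ### Short root elements -/

/-- The linear map of a short root element. -/
def shLin (p : I) (z : W a b) : V →ₗ[F] V where
  toFun v := vmk (fun i => hy v i - if i = p then Bp z (wp a b v) + z.norm * hy v (bar p) else 0)
    (wp a b v + hy v (bar p) • z)
  map_add' v w := vec_ext (a := a) (b := b)
    (fun i => by
      simp only [hy_vmk, hy_add, wp_add, Bp_add_right]
      split_ifs <;> ring)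
    (by simp only [wp_vmk, wp_add, hy_add, add_smul]; abel)
  map_smul' t v := vec_ext (a := a) (b := b)
    (fun i => by
      simp only [RingHom.id_apply, hy_vmk, hy_smul, wp_smul, Bp_smul_right]
      split_ifs <;> ring)
    (by simp only [RingHom.id_apply, wp_vmk, wp_smul, hy_smul, smul_add, mul_smul])

theorem shLin_add (p : I) (z w : W a b) (v : V) : shLin p (z + w) v = shLin p z (shLin p w v) := by
  refine vec_ext (a := a) (b := b) (fun i => ?_) ?_
  · simp only [shLin, LinearMap.coe_mk, AddHom.coe_mk, hy_vmk, wp_vmk, bar_ne, if_false, sub_zero,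
      Bp_add_right, Bp_add_left, Bp_smul_right, N_add]
    split_ifs <;> ring
  · simp only [shLin, LinearMap.coe_mk, AddHom.coe_mk, hy_vmk, wp_vmk, bar_ne, if_false, sub_zero, smul_add]
    abel

theorem shLin_zero (p : I) (v : V) : shLin p (0 : W a b) v = v := by
  refine vec_ext (a := a) (b := b) (fun i => ?_) ?_
  · simp [shLin, hy_vmk, Bp]
  · simp [shLin, wp_vmk]

theorem Q_shLin (p : I) (z : W a b) (v : V) :
    Cfsg.quadFormMinus m F a b (shLin p z v) = Cfsg.quadFormMinus m F a b v := by
  rw [Q_eq, Q_eq]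
  simp only [shLin, LinearMap.coe_mk, AddHom.coe_mk, hy_vmk, wp_vmk]
  rw [N_add, N_smul, Bp_smul_right]
  obtain ⟨c, hc⟩ : ∃ c, c = Bp z (wp a b v) + z.norm * hy v (bar p) := ⟨_, rfl⟩
  rw [← hc]
  have h : Cfsg.quadFormPlus m F (fun i => hy v i - if i = p then c else 0) =
      Cfsg.quadFormPlus m F (hy v) - c * hy v (bar p) := by
    rcases p with j | j <;>
      simp only [Cfsg.quadFormPlus, Sum.inl.injEq, Sum.inr.injEq, reduceCtorEq, if_false, sub_zero, sub_mul,
        mul_sub, ite_mul, mul_ite, zero_mul, mul_zero, Finset.sum_sub_distrib, Finset.sum_ite_eq',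
        Finset.mem_univ, if_true, bar, Sum.swap_inl, Sum.swap_inr, mul_comm]
  rw [h, hc, Bp_comm (wp a b v) z]
  ring

/-- A short root element. -/
def sh (p : I) (z : W a b) : GM m a b :=
  mkGM (shLin p z) (shLin p (-z))
    (fun v => by rw [← shLin_add, add_neg_cancel, shLin_zero])
    (fun v => by rw [← shLin_add, neg_add_cancel, shLin_zero]) (Q_shLin p z)

theorem gact_sh (p : I) (z : W a b) (v : V) : gact (sh p z) v = shLin p z v :=
  LinearMap.toMatrix'_mulVec _ v

theorem hy_sh (p : I) (z : W a b) (v : V) (i : I) :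
    hy (gact (sh p z) v) i = hy v i - if i = p then Bp z (wp a b v) + z.norm * hy v (bar p) else 0 := by
  rw [gact_sh]; rfl

theorem wp_sh (p : I) (z : W a b) (v : V) : wp a b (gact (sh p z) v) = wp a b v + hy v (bar p) • z := by
  rw [gact_sh]; rfl

theorem sh_mul (p : I) (z w : W a b) : sh p z * sh p w = sh p (z + w) := by
  refine ext_gact fun v => ?_
  rw [gact_mul]
  simp only [sh, gact_mkGM, shLin_add]

theorem sh_zero (p : I) : sh p (0 : W a b) = 1 := ext_gact fun v => by
  rw [gact_one]; simp only [sh, gact_mkGM, shLin_zero]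

theorem sh_inv (p : I) (z : W a b) : (sh p z)⁻¹ = sh p (-z) :=
  inv_eq_of_mul_eq_one_right (by rw [sh_mul, add_neg_cancel, sh_zero])

/-- A long and a short root element commute. -/
theorem el_sh_comm {p q r : I} (h : Ok q r) (hq : bar q ≠ p) (hr : bar r ≠ p) (t : F) (z : W a b) :
    Commute (emb (el h t)) (sh p z) := by
  have hq' : bar p ≠ q := fun e => hq (by rw [← e, bar_bar])
  have hr' : bar p ≠ r := fun e => hr (by rw [← e, bar_bar])
  refine ext_coord (fun v i => ?_) fun v => ?_
  · simp only [gact_mul, hy_el, hy_sh, wp_emb, hq, hr, hq', hr', if_false, sub_zero, add_zero]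
    split_ifs <;> ring
  · simp only [gact_mul, wp_emb, wp_sh, hy_el, hq', hr', if_false, sub_zero, add_zero]

/-- The commutator of two short root elements. -/
theorem sh_rel {p q : I} (h : lev p ≠ lev q) (z w : W a b) :
    ⁅sh p z, sh q w⁆ = emb (el (ok_of_lev h) (-Bp z w)) := by
  rw [commutatorElement_def, mul_inv_eq_iff_eq_mul, mul_inv_eq_iff_eq_mul]
  have g1 : p ≠ q := fun e => h (by rw [e])
  have g2 : bar p ≠ q := fun e => h (by rw [← e, lev_bar])
  have g3 : bar q ≠ p := fun e => h (by rw [← e, lev_bar])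
  refine ext_coord (fun v i => ?_) fun v => ?_
  · simp only [gact_mul, hy_el, hy_sh, wp_sh, wp_emb, g2, g3, bar_ne, if_false, sub_zero, add_zero,
      Bp_add_right, Bp_smul_right]
    by_cases i1 : i = p
    · subst i1; simp [g1, g1.symm, Bp_comm w z]; ring
    by_cases i2 : i = q
    · subst i2; simp [g1, g1.symm, Bp_comm w z]; ring
    simp [i1, i2]
  · simp only [gact_mul, hy_el, hy_sh, wp_sh, wp_emb, g2, g3, bar_ne, if_false, sub_zero, add_zero]
    abel

/-- The commutator of a long and a short root element. -/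
theorem el_sh_rel {p q : I} (h : lev p ≠ lev q) (t : F) (z : W a b) :
    ⁅emb (a := a) (b := b) (el (ok_of_lev (show lev p ≠ lev (bar q) by rwa [lev_bar])) t), sh q z⁆ =
      sh p (t • z) * emb (el (ok_of_lev h) (t * z.norm)) := by
  rw [commutatorElement_def, mul_inv_eq_iff_eq_mul, mul_inv_eq_iff_eq_mul]
  have g1 : p ≠ q := fun e => h (by rw [e])
  have g2 : bar p ≠ q := fun e => h (by rw [← e, lev_bar])
  have g3 : bar q ≠ p := fun e => h (by rw [← e, lev_bar])
  have g4 : p ≠ bar q := Ne.symm g3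
  have g5 : bar p ≠ bar q := fun e => g1 (bar_inj e)
  refine ext_coord (fun v i => ?_) fun v => ?_
  · simp only [gact_mul, hy_el, hy_sh, wp_sh, wp_emb, g2, g3, g5, g5.symm, bar_ne, bar_bar,
      (bar_ne _).symm, g1, g1.symm, if_false, if_true, sub_zero, add_zero, Bp_add_right, Bp_smul_right,
      Bp_smul_left, N_smul]
    by_cases i1 : i = p
    · subst i1; simp [g1, g4, Bp_self]; ring
    by_cases i2 : i = q
    · subst i2; simp [g1, g1.symm, g3, g3.symm, bar_ne, (bar_ne _).symm, Bp_self]; ring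
    by_cases i3 : i = bar q
    · subst i3; simp [g3, g4, bar_ne]
    simp [i1, i2, i3]
  · simp only [gact_mul, hy_el, hy_sh, wp_sh, wp_emb, g2, g3, g5, g5.symm, bar_ne, bar_bar,
      (bar_ne _).symm, g1, g1.symm, if_false, if_true, sub_zero, add_zero]
    module

/-! ### Monomial elements -/

/-- A monomial element with its action `u ↦ μ u` or `u ↦ μ ū` on the plane. -/
def IsMM (g : GM m a b) (τ : Equiv.Perm (Fin m ⊕ Fin m)) (c : Fin m ⊕ Fin m → F) (μ : W a b) (s : Bool) :
    Prop :=
  (∀ i, τ (bar i) = bar (τ i)) ∧ (∀ i, c i * c (bar i) = 1) ∧ μ.norm = 1 ∧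
    ∀ v, (∀ i, hy (gact g v) (τ i) = c i * hy v i) ∧ wp a b (gact g v) = act μ s (wp a b v)

theorem isMM_one : IsMM (1 : GM m a b) 1 (fun _ => 1) 1 false :=
  ⟨fun _ => rfl, fun _ => one_mul 1, map_one _,
    fun v => ⟨fun i => by simp [gact_one], by rw [gact_one, act_one]⟩⟩

theorem IsMM.mul {g g' : GM m a b} {τ τ' : Equiv.Perm I} {c c' : I → F} {μ μ' : W a b} {s s' : Bool}
    (h : IsMM g τ c μ s) (h' : IsMM g' τ' c' μ' s') :
    IsMM (g * g') (τ * τ') (fun i => c' i * c (τ' i)) (act μ s μ') (s ^^ s') := by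
  refine ⟨fun i => by simp [h'.1, h.1], fun i => ?_, by rw [N_act h.2.2.1, h'.2.2.1],
    fun v => ⟨fun i => ?_, ?_⟩⟩
  · beta_reduce; rw [h'.1]
    linear_combination (c (τ' i) * c (bar (τ' i))) * h'.2.1 i + h.2.1 (τ' i)
  · rw [gact_mul, Equiv.Perm.mul_apply, (h.2.2.2 _).1, (h'.2.2.2 v).1]; ring
  · rw [gact_mul, (h.2.2.2 _).2, (h'.2.2.2 v).2, act_comp]

theorem IsMM.ne {g : GM m a b} {τ : Equiv.Perm I} {c : I → F} {μ : W a b} {s : Bool} (h : IsMM g τ c μ s)
    (i : I) : c i ≠ 0 :=
  left_ne_zero_of_mul (by rw [h.2.1 i]; exact one_ne_zero)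

theorem IsMM.ok {g : GM m a b} {τ : Equiv.Perm I} {c : I → F} {μ : W a b} {s : Bool} (h : IsMM g τ c μ s)
    {p q : I} (hpq : lev p ≠ lev q) : lev (τ p) ≠ lev (τ q) := fun e => by
  rcases lev_eq e with e | e
  · exact hpq (by rw [τ.injective e])
  · rw [← h.1] at e; exact hpq (by rw [τ.injective e, lev_bar])

theorem act_of_isMonO {g : OG F m} {τ : Equiv.Perm I} {c : I → F} (h : IsMonO g τ c) (x : I → F) (i : I) :
    Chev.Ortho.act g x (τ i) = c i * x i := by
  have key : ∀ j, (g.1 : Matrix _ _ F) (τ i) j = if j = i then c j else 0 := fun j => by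
    have h1 := congrFun (h.2.2 j) (τ i)
    simp only [Chev.Ortho.act, Matrix.mulVec_single_one, Matrix.col_apply, Pi.single_apply,
      τ.injective.eq_iff] at h1
    rw [h1]; simp only [eq_comm]
  show ((g.1 : Matrix _ _ F) *ᵥ x) (τ i) = _
  simp [Matrix.mulVec, dotProduct, key]

theorem IsMM.of_isMonO {g : OG F m} {τ : Equiv.Perm I} {c : I → F} (h : IsMonO g τ c) :
    IsMM (emb (a := a) (b := b) g) τ c 1 false := by
  refine ⟨h.1, h.2.1, map_one _, fun v => ⟨fun i => ?_, by rw [wp_emb, act_one]⟩⟩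
  rw [hy_emb]; exact act_of_isMonO h _ i

theorem IsMM.conj_el {g : GM m a b} {τ : Equiv.Perm I} {c : I → F} {μ : W a b} {s : Bool}
    (h : IsMM g τ c μ s) {p q : I} (hpq : Ok p q) (h' : Ok (τ p) (τ q)) (t : F) :
    g * emb (el hpq t) * g⁻¹ = emb (el h' (c p * c q * t)) := by
  rw [mul_inv_eq_iff_eq_mul]
  refine ext_coord (fun v i => ?_) fun v => ?_
  · obtain ⟨j, rfl⟩ := τ.surjective i
    rw [gact_mul, gact_mul, (h.2.2.2 _).1, hy_el, hy_el, ← h.1, ← h.1, (h.2.2.2 _).1, (h.2.2.2 _).1,
      (h.2.2.2 _).1]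
    simp only [τ.injective.eq_iff]
    split_ifs with i1 i2 i2
    · subst i1; subst i2; linear_combination (c j * t * hy v (bar j)) * h.2.1 j - (c j * t * hy v (bar j)) * h.2.1 j
    · subst i1; linear_combination -(c j * t * hy v (bar q)) * h.2.1 q
    · subst i2; linear_combination (c j * t * hy v (bar p)) * h.2.1 p
    · ring
  · rw [gact_mul, gact_mul, (h.2.2.2 _).2, wp_emb, wp_emb, (h.2.2.2 _).2]

theorem IsMM.conj_sh {g : GM m a b} {τ : Equiv.Perm I} {c : I → F} {μ : W a b} {s : Bool}
    (h : IsMM g τ c μ s) (p : I) (z : W a b) :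
    g * sh p z * g⁻¹ = sh (τ p) (c p • act μ s z) := by
  rw [mul_inv_eq_iff_eq_mul]
  refine ext_coord (fun v i => ?_) fun v => ?_
  · obtain ⟨j, rfl⟩ := τ.surjective i
    rw [gact_mul, gact_mul, (h.2.2.2 _).1, hy_sh, hy_sh, ← h.1, (h.2.2.2 _).1, (h.2.2.2 _).1,
      (h.2.2.2 v).2]
    simp only [τ.injective.eq_iff, Bp_smul_left, Bp_act h.2.2.1, N_smul, N_act h.2.2.1]
    split_ifs with i1
    · subst i1; linear_combination (c j * z.norm * hy v (bar j)) * h.2.1 j
    · ring
  · rw [gact_mul, gact_mul, (h.2.2.2 _).2, wp_sh, wp_sh, ← h.1, (h.2.2.2 _).2, (h.2.2.2 v).1, act_add,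
      act_smul, smul_smul]
    congr 2
    linear_combination -(hy v (bar p)) * h.2.1 p

theorem mm_unique {g : GM m a b} {τ τ' : Equiv.Perm I} {c c' : I → F} {μ μ' : W a b} {s s' : Bool}
    (h : IsMM g τ c μ s) (h' : IsMM g τ' c' μ' s') : τ = τ' := by
  refine Equiv.ext fun i => ?_
  by_contra hne
  obtain ⟨j, hj⟩ := τ'.surjective (τ i)
  have h1 := (h.2.2.2 (vmk (Pi.single i 1) (0 : W a b))).1 i
  rw [← hj, (h'.2.2.2 _).1 j, hy_vmk, Pi.single_eq_same, mul_one,
    Pi.single_eq_of_ne (fun e => hne (by rw [← hj, e])), mul_zero] at h1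
  exact h.ne i h1.symm

theorem mm_unique' [hab : Fact (Aniso a b)] [Finite F] {g : GM m a b} {τ τ' : Equiv.Perm I} {c c' : I → F}
    {μ μ' : W a b} {s s' : Bool} (h : IsMM g τ c μ s) (h' : IsMM g τ' c' μ' s') : μ = μ' ∧ s = s' := by
  have e : ∀ u : W a b, act μ s u = act μ' s' u := fun u => by
    have h1 := (h.2.2.2 (vmk 0 u)).2
    rwa [(h'.2.2.2 _).2, wp_vmk, eq_comm] at h1
  have e1 : μ = μ' := by
    have := e 1
    cases s <;> cases s' <;> simpa [act] using this
  refine ⟨e1, ?_⟩
  have hμ : μ ≠ 0 := fun e => by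
    have := h.2.2.1; rw [e, QuadraticAlgebra.norm_zero] at this; exact zero_ne_one this
  obtain ⟨u, hu⟩ : ∃ u : W a b, star u ≠ u := by
    refine ⟨⟨0, 1⟩, fun e => ?_⟩
    have h1 := congrArg QuadraticAlgebra.re e
    have h2 := congrArg QuadraticAlgebra.im e
    simp at h1 h2
    exact a_ne_zero (a := a) (b := b) (by linear_combination -h2) h1
  have := e u
  rw [← e1] at this
  cases s <;> cases s' <;> first | rfl | exact absurd (mul_left_cancel₀ hμ (by simpa [act] using this)) (by
    first | exact hu | exact hu.symm)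

/-- The Weyl element of a short root. -/
def wsG (p : I) (z : W a b) : GM m a b := sh p z * sh (bar p) (z.norm⁻¹ • z) * sh p z

theorem isMM_wsG [hab : Fact (Aniso a b)] (p : I) {z : W a b} (hz : z ≠ 0) :
    IsMM (wsG p z) (Equiv.swap p (bar p))
      (fun i => if i = p then -z.norm⁻¹ else if i = bar p then -z.norm else 1) (-(z / star z)) true := by
  have g := bar_ne p
  have hN := N_ne hz
  refine ⟨fun i => ?_, fun i => ?_, by rw [QuadraticAlgebra.norm_neg, N_div_star hz],
    fun v => ⟨fun i => ?_, ?_⟩⟩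
  · by_cases i1 : i = p
    · subst i1; simp [bar_bar]
    by_cases i2 : i = bar p
    · subst i2; simp [bar_bar]
    rw [Equiv.swap_apply_of_ne_of_ne i1 i2, Equiv.swap_apply_of_ne_of_ne]
    · exact fun e => i2 (by rw [← e, bar_bar])
    · exact fun e => i1 (bar_inj e)
  · by_cases i1 : i = p
    · subst i1; simp [g, hN]
    by_cases i2 : i = bar p
    · subst i2; simp [g, bar_bar, hN]
    have j1 : bar i ≠ p := fun e => i2 (by rw [← e, bar_bar])
    have j2 : bar i ≠ bar p := fun e => i1 (bar_inj e)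
    simp [i1, i2, j1, j2]
  · simp only [wsG, gact_mul, hy_sh, wp_sh, bar_bar, g, g.symm, if_false, if_true, sub_zero, Bp_add_right,
      Bp_smul_right, Bp_smul_left, N_smul, Bp_self, Equiv.swap_apply_def]
    by_cases i1 : i = p
    · subst i1; simp [g, g.symm]; field_simp; ring
    by_cases i2 : i = bar p
    · subst i2; simp [g, g.symm]; field_simp; ring
    simp [i1, i2]
  · simp only [wsG, gact_mul, hy_sh, wp_sh, bar_bar, g, g.symm, if_false, if_true, sub_zero, Bp_add_right,
      Bp_smul_right, Bp_smul_left, Bp_comm z (wp a b v), Bp_self, N_smul]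
    rw [← refl_eq hz, smul_smul, add_assoc, add_assoc, ← add_smul, ← add_smul, sub_eq_add_neg (wp a b v), ← neg_smul]
    congr 2
    field_simp
    ring

end Cfsg.Agent.DMult.Minus
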