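import Cfsg.Agent.DMult.Minus.Unip

/-!
The kernel of the projection on the lifted root elements of minus type has at most two elements.
-/

set_option autoImplicit false
set_option linter.unusedSectionVars false
set_option linter.unusedSimpArgs false

open Matrix
open scoped commutatorElement

namespace Cfsg.Agent.DMult.Minus.BMExt

open Chev.Ortho
open CurtisTitsD (ok_of_lev lev_ne_of_ok Rt rperm rperm_apply V V_le le_V le_normalizer')

universe u

variable {F : Type u} [Field F] [Fintype F] {m : ℕ} {a b : F} [hab : Fact (Aniso a b)] {Γ : Type u} [Group Γ]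
  [Finite Γ] (B : BMExt m a b Γ)

local notation "I" => Fin m ⊕ Fin m

/-- The height of a signed index. -/
def hB {m : ℕ} : Fin m ⊕ Fin m → ℤ := Sum.elim (fun i => (m : ℤ) - (i : ℕ)) fun i => -((m : ℤ) - (i : ℕ))

theorem hB_inl (i : Fin m) : hB (Sum.inl i : I) = (m : ℤ) - (i : ℕ) := rfl

theorem hB_inr (i : Fin m) : hB (Sum.inr i : I) = -((m : ℤ) - (i : ℕ)) := rfl

theorem hB_bar (x : I) : hB (bar x) = -hB x := by cases x <;> simp [hB, bar]

theorem hB_ne (x : I) : hB x ≠ 0 := by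
  rcases x with i | i <;> simp only [hB, Sum.elim_inl, Sum.elim_inr] <;> have := i.2 <;> omega

theorem hB_sum_ne {p q : I} (h : lev p ≠ lev q) : hB p + hB q ≠ 0 := by
  rcases p with i | i <;> rcases q with j | j <;>
    simp only [hB, Sum.elim_inl, Sum.elim_inr, lev] at h ⊢ <;> have := i.2 <;> have := j.2 <;> omega

/-- The roots. -/
abbrev RB (m : ℕ) : Type := Rt m ⊕ (Fin m ⊕ Fin m)

/-- The height of a root. -/
def htB {m : ℕ} : RB m → ℤ := Sum.elim (fun r => hB r.1.1 + hB r.1.2) hB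

/-- The opposite root. -/
def negB {m : ℕ} : RB m → RB m := Sum.map CurtisTitsD.rneg bar

/-- The root subgroup of a long root. -/
noncomputable def XRB (p q : Fin m ⊕ Fin m) : Subgroup Γ := Subgroup.closure (Set.range (B.XL p q))

/-- The root subgroup of a short root. -/
noncomputable def YR (p : Fin m ⊕ Fin m) : Subgroup Γ := Subgroup.closure (Set.range (B.Y p))

/-- The root subgroups. -/
noncomputable def XB : RB m → Subgroup Γ := Sum.elim (fun r => B.XRB r.1.1 r.1.2) B.YR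

theorem mem_XRB {p q : I} (h : lev p ≠ lev q) {x : Γ} : x ∈ B.XRB p q ↔ ∃ t, B.XL p q t = x := by
  refine ⟨fun hx => ?_, fun ⟨t, e⟩ => e ▸ Subgroup.subset_closure ⟨t, rfl⟩⟩
  refine Subgroup.closure_induction (fun _ hy => hy) ⟨0, B.XL_zero h⟩ ?_ ?_ hx
  · rintro _ _ _ _ ⟨t, rfl⟩ ⟨u, rfl⟩; exact ⟨t + u, B.XL_add h t u⟩
  · rintro _ _ ⟨t, rfl⟩; exact ⟨-t, (B.XL_inv h t).symm⟩

theorem mem_YR {p : I} {x : Γ} : x ∈ B.YR p ↔ ∃ z, B.Y p z = x := by
  refine ⟨fun hx => ?_, fun ⟨t, e⟩ => e ▸ Subgroup.subset_closure ⟨t, rfl⟩⟩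
  refine Subgroup.closure_induction (fun _ hy => hy) ⟨0, B.Y_zero p⟩ ?_ ?_ hx
  · rintro _ _ _ _ ⟨t, rfl⟩ ⟨u, rfl⟩; exact ⟨t + u, B.Y_add p t u⟩
  · rintro _ _ ⟨t, rfl⟩; exact ⟨-t, (B.Y_inv p t).symm⟩

theorem XRB_swap {p q : I} (h : lev p ≠ lev q) : B.XRB q p = B.XRB p q := by
  ext x
  rw [B.mem_XRB h.symm, B.mem_XRB h]
  exact ⟨fun ⟨t, e⟩ => ⟨-t, (B.XL_swap h t).symm.trans e⟩,
    fun ⟨t, e⟩ => ⟨-t, by rw [B.XL_swap h, neg_neg, e]⟩⟩

theorem lev_rt (r : Rt m) : lev r.1.1 ≠ lev r.1.2 := lev_ne_of_ok r.2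

/-- A monomial element maps root subgroups to root subgroups. -/
theorem mon_mapB {g : Γ} {τ : Equiv.Perm I} {c : I → F} {μ : W a b} {s : Bool} (h : IsMM (B.σ g) τ c μ s) :
    ∀ r : RB m, (B.XB r).map (MulAut.conj g).toMonoidHom =
      B.XB (Equiv.sumCongr (rperm τ h.1) τ r) := by
  have hμ : μ * star μ = 1 := by rw [mul_star_self, h.2.2.1, map_one]
  rintro (r | p)
  · show (B.XRB r.1.1 r.1.2).map _ = B.XRB (τ r.1.1) (τ r.1.2)
    have hl := lev_rt r
    ext x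
    simp only [Subgroup.mem_map, MulEquiv.coe_toMonoidHom, MulAut.conj_apply, B.mem_XRB (h.ok hl)]
    constructor
    · rintro ⟨y, hy, rfl⟩
      obtain ⟨t, rfl⟩ := (B.mem_XRB hl).1 hy
      exact ⟨_, (B.XL_conj h hl t).symm⟩
    · rintro ⟨t, rfl⟩
      refine ⟨_, (B.mem_XRB hl).2 ⟨t / (c r.1.1 * c r.1.2), rfl⟩, ?_⟩
      rw [B.XL_conj h hl, mul_div_cancel₀ t (mul_ne_zero (h.ne _) (h.ne _))]
  · show (B.YR p).map _ = B.YR (τ p)
    ext x
    simp only [Subgroup.mem_map, MulEquiv.coe_toMonoidHom, MulAut.conj_apply, B.mem_YR]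
    constructor
    · rintro ⟨y, ⟨t, rfl⟩, rfl⟩
      exact ⟨_, (B.Y_conj h p t).symm⟩
    · rintro ⟨t, rfl⟩
      refine ⟨_, ⟨act (bif s then μ else star μ) s ((c p)⁻¹ • t), rfl⟩, ?_⟩
      rw [B.Y_conj h, act_comp, Bool.xor_self]
      congr 1
      cases s <;> simp [act, hμ, smul_smul, mul_inv_cancel₀ (h.ne p)]

/-- The Weyl element of a short root. -/
noncomputable def ws (p : Fin m ⊕ Fin m) (z : W a b) : Γ :=
  B.Y p z * B.Y (bar p) (z.norm⁻¹ • z) * B.Y p z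

theorem σ_ws (p : I) (z : W a b) : B.σ (B.ws p z) = wsG p z := by
  simp only [ws, wsG, map_mul, B.σ_Y]

theorem isMM_ws (p : I) {z : W a b} (hz : z ≠ 0) :
    IsMM (B.σ (B.ws p z)) (Equiv.swap p (bar p))
      (fun i => if i = p then -z.norm⁻¹ else if i = bar p then -z.norm else 1) (-(z / star z)) true := by
  rw [B.σ_ws]; exact isMM_wsG p hz

theorem ws_inv (p : I) (z : W a b) : (B.ws p z)⁻¹ = B.ws p (-z) := by
  simp only [ws, _root_.mul_inv_rev, B.Y_inv, QuadraticAlgebra.norm_neg, smul_neg, mul_assoc]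

/-- A nontrivial short root element is a product with a Weyl element of the opposite root. -/
theorem Y_bar_decomp (p : I) {u : W a b} (hu : u ≠ 0) :
    ∃ z, z ≠ 0 ∧ B.Y (bar p) u = B.Y p (-z) * B.ws p z * B.Y p (-z) := by
  have hN := N_ne hu
  refine ⟨u.norm⁻¹ • u, smul_ne_zero (inv_ne_zero hN) hu, ?_⟩
  rw [ws, N_smul, smul_smul, show (u.norm⁻¹ ^ 2 * u.norm)⁻¹ * u.norm⁻¹ = 1 by field_simp, one_smul,
    ← B.Y_inv]
  group

theorem inv_sq_cancel {t : F} (ht : t ≠ 0) : (t⁻¹ ^ 2 * t)⁻¹ * t⁻¹ = 1 := by field_simp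

/-- The group of the long Weyl elements. -/
noncomputable def ND : Subgroup Γ := (Ngp B.D).map B.DS.subtype

theorem wL_mem_ND {p q : I} (h : lev p ≠ lev q) {t : F} (ht : t ≠ 0) : B.wL p q t ∈ B.ND :=
  ⟨_, w_mem_Ngp B.D h ht, rfl⟩

theorem hL_mem_ND {p q : I} (h : lev p ≠ lev q) {t : F} (ht : t ≠ 0) : B.hL p q t ∈ B.ND :=
  ⟨_, That_le_Ngp B.D (h_mem_That B.D h ht), rfl⟩

theorem ND_conj {g : Γ} {τ : Equiv.Perm I} {c : I → F} {μ : W a b} {s : Bool} (h : IsMM (B.σ g) τ c μ s)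
    {x : Γ} (hx : x ∈ B.ND) : g * x * g⁻¹ ∈ B.ND := by
  obtain ⟨d, hd, rfl⟩ := hx
  have hd' : d ∈ Subgroup.closure {x : B.DS | ∃ p q t, lev p ≠ lev q ∧ t ≠ 0 ∧ DMult.w B.D p q t = x} := hd
  show g * (d : Γ) * g⁻¹ ∈ B.ND
  refine Subgroup.closure_induction (p := fun (d : B.DS) _ => g * (d : Γ) * g⁻¹ ∈ B.ND) ?_ ?_ ?_ ?_ hd'
  · rintro _ ⟨p, q, t, hpq, ht, rfl⟩
    show g * B.wL p q t * g⁻¹ ∈ _
    rw [B.wL_conj h hpq]
    exact B.wL_mem_ND (h.ok hpq) (mul_ne_zero (mul_ne_zero (h.ne p) (h.ne q)) ht)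
  · simp [one_mem]
  · intro x y _ _ hx hy
    rw [Subgroup.coe_mul, ← conj_mul]; exact mul_mem hx hy
  · intro x _ hx
    rw [Subgroup.coe_inv, ← conj_inv]; exact inv_mem hx

theorem ND_isMM {x : Γ} (hx : x ∈ B.ND) : ∃ τ c, IsMM (B.σ x) τ c 1 false := by
  obtain ⟨d, hd, rfl⟩ := hx
  obtain ⟨τ, c, hc⟩ := Ngp_le B.D hd
  refine ⟨τ, c, ?_⟩
  rw [Subgroup.coe_subtype, ← B.emb_σD]
  exact IsMM.of_isMonO hc

/-- The short Weyl elements on a line differ by long torus elements. -/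
theorem ws_smul (p : I) {z : W a b} (hz : z ≠ 0) {l : F} (hl : l ≠ 0) :
    ∃ d ∈ B.ND, B.ws p (l • z) = d * B.ws p z := by
  obtain ⟨c, hc, -⟩ := third B.three p p
  have hm := B.isMM_hL hc.symm hl
  have hs := B.isMM_ws p hz
  refine ⟨B.hL p c l * (B.hL (bar p) c l)⁻¹, mul_mem (B.hL_mem_ND hc.symm hl)
    (inv_mem (B.hL_mem_ND (by rw [lev_bar]; exact hc.symm) hl)), ?_⟩
  have e1 : B.hL p c l * B.ws p z * (B.hL p c l)⁻¹ = B.ws p (l • z) := by
    rw [ws, show B.hL p c l * (B.Y p z * B.Y (bar p) (z.norm⁻¹ • z) * B.Y p z) * (B.hL p c l)⁻¹ =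
      B.hL p c l * B.Y p z * (B.hL p c l)⁻¹ * (B.hL p c l * B.Y (bar p) (z.norm⁻¹ • z) * (B.hL p c l)⁻¹) *
        (B.hL p c l * B.Y p z * (B.hL p c l)⁻¹) by group, B.Y_conj hm, B.Y_conj hm, ws]
    have a1 : bar p ≠ c := fun e => hc (by rw [← e, lev_bar])
    simp only [bar_ne, a1, true_or, if_true, false_or, or_false, if_false, act_one,
      Equiv.Perm.one_apply, N_smul, smul_smul]
    congr 3
    field_simp
  have e2 : B.ws p z * B.hL p c l * (B.ws p z)⁻¹ = B.hL (bar p) c l := by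
    rw [B.hL_conj hs hc.symm hl, Equiv.swap_apply_left, Equiv.swap_apply_of_ne_of_ne]
    · exact fun e => hc (by rw [e])
    · exact fun e => hc (by rw [e, lev_bar])
  rw [← e1, ← e2]; group

/-- The Weyl elements of opposite short roots coincide. -/
theorem ws_bar (p : I) {z : W a b} (hz : z ≠ 0) : B.ws (bar p) (z.norm⁻¹ • z) = B.ws p z := by
  have hs := B.isMM_ws p hz
  have hN := N_ne hz
  have hst := star_ne hz
  have k : B.ws p z * B.ws p z * (B.ws p z)⁻¹ = B.ws p z := mul_inv_cancel_right _ _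
  conv_rhs => rw [← k]
  rw [show B.ws p z * B.ws p z * (B.ws p z)⁻¹ = B.ws p z * B.Y p z * (B.ws p z)⁻¹ *
      (B.ws p z * B.Y (bar p) (z.norm⁻¹ • z) * (B.ws p z)⁻¹) * (B.ws p z * B.Y p z * (B.ws p z)⁻¹) by
    simp only [ws]; group, B.Y_conj hs, B.Y_conj hs, Equiv.swap_apply_left, Equiv.swap_apply_right, ws, bar_bar]
  have ez : act (-(z / star z)) true z = -z := by simp only [act, cond_true]; field_simp
  simp only [bar_ne, if_true, if_false, act_smul, ez, smul_neg, neg_smul, neg_neg, N_smul, smul_smul,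
    neg_mul, mul_inv_cancel₀ hN, neg_smul, neg_neg, one_smul]
  congr 3
  rw [show (z.norm⁻¹ ^ 2 * z.norm)⁻¹ * z.norm⁻¹ = 1 by field_simp, one_smul]

/-- Conjugation of short Weyl elements of one index. -/
theorem ws_conj (p : I) {z w : W a b} (hz : z ≠ 0) (hw : w ≠ 0) :
    B.ws p z * B.ws p w * (B.ws p z)⁻¹ = B.ws p (z * z / w) := by
  have hs := B.isMM_ws p hz
  have hN := N_ne hz
  have hNw := N_ne hw
  have hst := star_ne hz
  have hstw := star_ne hw
  have hv : z * z / w ≠ 0 := div_ne_zero (mul_ne_zero hz hz) hw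
  have hNv : (z * z / w).norm = z.norm * z.norm / w.norm := by
    rw [eq_div_iff hNw, ← map_mul, div_mul_cancel₀ _ hw, map_mul]
  rw [show B.ws p z * B.ws p w * (B.ws p z)⁻¹ = B.ws p z * B.Y p w * (B.ws p z)⁻¹ *
      (B.ws p z * B.Y (bar p) (w.norm⁻¹ • w) * (B.ws p z)⁻¹) * (B.ws p z * B.Y p w * (B.ws p z)⁻¹) by
    simp only [ws]; group, B.Y_conj hs, B.Y_conj hs, Equiv.swap_apply_left, Equiv.swap_apply_right,
    ← B.ws_bar p hv, ws, bar_bar]
  have e1 : (-z.norm⁻¹) • act (-(z / star z)) true w = (z * z / w).norm⁻¹ • (z * z / w) := by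
    simp only [act, cond_true, hNv, Algebra.smul_def, map_neg, map_inv₀, map_div₀, map_mul, ← mul_star_self]
    field_simp
  have e2 : (-z.norm) • act (-(z / star z)) true (w.norm⁻¹ • w) = z * z / w := by
    simp only [act_smul]
    simp only [act, cond_true, Algebra.smul_def, map_neg, map_inv₀, ← mul_star_self]
    field_simp
  have e3 : ((z * z / w).norm⁻¹ • (z * z / w)).norm⁻¹ • (z * z / w).norm⁻¹ • (z * z / w) = z * z / w := by
    have := N_ne hv
    rw [N_smul, smul_smul, inv_sq_cancel this, one_smul]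
  simp only [bar_ne, if_true, if_false]
  rw [e1, e2, e3]

/-- The last signed index. -/
def iL (B : BMExt m a b Γ) : Fin m ⊕ Fin m := Sum.inl ⟨m - 1, by have := B.three; omega⟩

/-- The monomial group. -/
noncomputable def NB : Subgroup Γ :=
  B.ND ⊔ Subgroup.closure {x | ∃ z : W a b, z ≠ 0 ∧ B.ws B.iL z = x}

theorem ND_le_NB : B.ND ≤ B.NB := le_sup_left

theorem ws_mem_NB {z : W a b} (hz : z ≠ 0) : B.ws B.iL z ∈ B.NB :=
  Subgroup.mem_sup_right (Subgroup.subset_closure ⟨z, hz, rfl⟩)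

theorem NB_isMM {x : Γ} (hx : x ∈ B.NB) : ∃ τ c μ s, IsMM (B.σ x) τ c μ s := by
  rw [NB, Subgroup.sup_eq_closure] at hx
  refine Subgroup.closure_induction ?_ ⟨_, _, _, _, by rw [map_one]; exact isMM_one⟩ ?_ ?_ hx
  · rintro y (hy | hy)
    · obtain ⟨τ, c, h⟩ := B.ND_isMM hy
      exact ⟨_, _, _, _, h⟩
    · refine Subgroup.closure_induction ?_ ⟨_, _, _, _, by rw [map_one]; exact isMM_one⟩ ?_ ?_ hy
      · rintro _ ⟨z, hz, rfl⟩; exact ⟨_, _, _, _, B.isMM_ws _ hz⟩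
      · rintro x y - - ⟨_, _, _, _, hx⟩ ⟨_, _, _, _, hy⟩
        exact ⟨_, _, _, _, by rw [map_mul]; exact hx.mul hy⟩
      · rintro x - ⟨_, _, _, _, hx⟩; exact ⟨_, _, _, _, by rw [map_inv]; exact isMM_inv hx⟩
  · rintro x y - - ⟨_, _, _, _, hx⟩ ⟨_, _, _, _, hy⟩
    exact ⟨_, _, _, _, by rw [map_mul]; exact hx.mul hy⟩
  · rintro x - ⟨_, _, _, _, hx⟩; exact ⟨_, _, _, _, by rw [map_inv]; exact isMM_inv hx⟩

/-- A monomial element that is trivial on the plane is a product of long Weyl elements. -/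
theorem NB_plane {x : Γ} (hx : x ∈ B.NB) {τ : Equiv.Perm I} {c : I → F} (h : IsMM (B.σ x) τ c 1 false) :
    x ∈ B.ND := by
  have : (B.ND.subgroupOf B.NB).Normal := ⟨fun y hy g => by
    obtain ⟨_, _, _, _, hg⟩ := B.NB_isMM g.2
    rw [Subgroup.mem_subgroupOf] at hy ⊢
    exact B.ND_conj hg hy⟩
  obtain ⟨qq, hqq⟩ : ∃ qq : B.NB →* B.NB ⧸ B.ND.subgroupOf B.NB, qq = QuotientGroup.mk' _ := ⟨_, rfl⟩
  have hker : ∀ y : B.NB, qq y = 1 ↔ (y : Γ) ∈ B.ND := fun y => by
    rw [hqq, QuotientGroup.mk'_apply, QuotientGroup.eq_one_iff, Subgroup.mem_subgroupOf]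
  obtain ⟨q, hq⟩ : ∃ q : {z : W a b // z ≠ 0} → B.NB ⧸ B.ND.subgroupOf B.NB,
      ∀ z, q z = qq ⟨B.ws B.iL z.1, B.ws_mem_NB z.2⟩ := ⟨_, fun _ => rfl⟩
  have hsmul : ∀ (z w : {z : W a b // z ≠ 0}) (l : F), w.1 = l • z.1 → q w = q z := fun z w l e => by
    have hl : l ≠ 0 := fun h0 => w.2 (by rw [e, h0, zero_smul])
    obtain ⟨d, hd, e'⟩ := B.ws_smul B.iL z.2 hl
    have hsub : (⟨B.ws B.iL w.1, B.ws_mem_NB w.2⟩ : B.NB) = ⟨d, B.ND_le_NB hd⟩ * ⟨_, B.ws_mem_NB z.2⟩ :=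
      Subtype.ext (by simp [e, e'])
    rw [hq, hq, hsub, map_mul, (hker _).2 hd, one_mul]
  have hsq : ∀ z, q z * q z = 1 := fun z => by
    have e := hsmul z ⟨-z.1, neg_ne_zero.2 z.2⟩ (-1) (by simp)
    nth_rewrite 1 [← e]
    rw [hq, hq, ← map_mul, hker]
    simp [← B.ws_inv]
  have hconj : ∀ z w v : {z : W a b // z ≠ 0}, v.1 = z.1 * z.1 / w.1 → q z * q w * q z = q v :=
    fun z w v e => by
    rw [show q z * q w * q z = q z * q w * (q z)⁻¹ by rw [inv_eq_of_mul_eq_one_right (hsq z)], hq, hq, hq,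
      ← map_inv, ← map_mul, ← map_mul]
    congr 1
    exact Subtype.ext (by simp [e, B.ws_conj B.iL z.2 w.2])
  obtain ⟨g, hg⟩ := IsCyclic.exists_generator (α := (W a b)ˣ)
  obtain ⟨Q, hQ⟩ : ∃ Q : (W a b)ˣ → B.NB ⧸ B.ND.subgroupOf B.NB, ∀ z, Q z = q ⟨z, z.ne_zero⟩ := ⟨_, fun _ => rfl⟩
  obtain ⟨d, hd⟩ : ∃ d, d = Q g * Q 1 := ⟨_, rfl⟩
  have hQ1 : Q 1 * Q 1 = 1 := by rw [hQ]; exact hsq _
  have hflip : ∀ k : ℤ, Q 1 * d ^ k = d ^ (-k) * Q 1 := fun k => by
    have e : Q 1 * d * (Q 1)⁻¹ = d⁻¹ := by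
      rw [hd, _root_.mul_inv_rev, inv_eq_of_mul_eq_one_right hQ1,
        inv_eq_of_mul_eq_one_right (show Q g * Q g = 1 by rw [hQ]; exact hsq _), mul_assoc, mul_assoc, hQ1, mul_one]
    rw [_root_.zpow_neg, ← _root_.inv_zpow, ← e, conj_zpow, mul_assoc, inv_mul_cancel, mul_one]
  have hpow : ∀ k : ℕ, Q (g ^ k) = d ^ (k : ℤ) * Q 1 := by
    intro k
    induction k using Nat.twoStepInduction with
    | zero => simp
    | one => rw [pow_one, Nat.cast_one, zpow_one, hd, mul_assoc, hQ1, mul_one]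
    | more k h1 h2 =>
      have hc : Q (g ^ (k + 2)) = Q (g ^ (k + 1)) * Q (g ^ k) * Q (g ^ (k + 1)) := by
        rw [hQ, hQ (g ^ (k + 1)), hQ (g ^ k)]
        exact (hconj _ _ ⟨_, (g ^ (k + 2)).ne_zero⟩ (by
          simp only [Units.val_pow_eq_pow_val]
          rw [eq_div_iff (pow_ne_zero _ g.ne_zero)]; ring)).symm
      calc Q (g ^ (k + 2)) = d ^ ((k + 1 : ℕ) : ℤ) * (Q 1 * d ^ (k : ℤ)) * (Q 1 * d ^ ((k + 1 : ℕ) : ℤ)) * Q 1 := by
            rw [hc, h1, h2]; simp only [mul_assoc]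
        _ = d ^ (((k + 1 : ℕ) : ℤ) + -(k : ℤ)) * (Q 1 * Q 1) * d ^ ((k + 1 : ℕ) : ℤ) * Q 1 := by
            rw [hflip, _root_.zpow_add]; simp only [mul_assoc]
        _ = d ^ ((k + 2 : ℕ) : ℤ) * Q 1 := by
            rw [hQ1, mul_one, ← _root_.zpow_add]; congr 2; push_cast; ring
  have himg : ∀ y : B.NB, ∃ k : ℤ, qq y = d ^ k ∨ qq y = d ^ k * Q 1 := by
    let S : Subgroup (B.NB ⧸ B.ND.subgroupOf B.NB) :=
      { carrier := {y | ∃ k : ℤ, y = d ^ k ∨ y = d ^ k * Q 1}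
        one_mem' := ⟨0, Or.inl (by simp)⟩
        mul_mem' := fun {u v} hu hv => by
          obtain ⟨j, hj⟩ := hu
          obtain ⟨k, hk⟩ := hv
          rcases hj with hj | hj <;> rcases hk with hk | hk <;> rw [hj, hk]
          · exact ⟨j + k, Or.inl (_root_.zpow_add d j k).symm⟩
          · exact ⟨j + k, Or.inr (by rw [_root_.zpow_add, mul_assoc])⟩
          · exact ⟨j + -k, Or.inr (by rw [mul_assoc, hflip, _root_.zpow_add, mul_assoc])⟩
          · exact ⟨j + -k, Or.inl (by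
              rw [mul_assoc, ← mul_assoc (Q 1), hflip, mul_assoc (d ^ (-k)), hQ1, mul_one, _root_.zpow_add])⟩
        inv_mem' := fun {u} hu => by
          obtain ⟨j, hj⟩ := hu
          rcases hj with hj | hj <;> rw [hj]
          · exact ⟨-j, Or.inl (_root_.zpow_neg d j).symm⟩
          · exact ⟨j, Or.inr (by
              rw [_root_.mul_inv_rev, inv_eq_of_mul_eq_one_right hQ1, ← _root_.zpow_neg, hflip, neg_neg])⟩ }
    intro y
    have hle : B.NB ≤ (S.comap qq).map B.NB.subtype := by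
      refine sup_le (fun y hy => ⟨⟨y, B.ND_le_NB hy⟩, ?_, rfl⟩) ((Subgroup.closure_le _).2 ?_)
      · exact ⟨0, Or.inl (by rw [zpow_zero, hker]; exact hy)⟩
      · rintro _ ⟨z, hz, rfl⟩
        refine ⟨⟨_, B.ws_mem_NB hz⟩, ?_, rfl⟩
        obtain ⟨k, hk⟩ := mem_powers_iff_mem_zpowers.2 (hg (Units.mk0 z hz))
        refine ⟨k, Or.inr ?_⟩
        rw [← hpow, show g ^ k = Units.mk0 z hz from hk, hQ, hq]
        rfl
    obtain ⟨y', hy', e⟩ := hle y.2
    obtain rfl : y' = y := Subtype.ext e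
    exact hy'
  obtain ⟨k, hk⟩ := himg ⟨x, hx⟩
  obtain ⟨k', hk'⟩ : ∃ k' : ℕ, d ^ k' = d ^ k :=
    mem_powers_iff_mem_zpowers.2 (Subgroup.zpow_mem_zpowers d k)
  obtain ⟨e, he⟩ : ∃ e, e = B.ws B.iL (g : W a b) * B.ws B.iL 1 := ⟨_, rfl⟩
  have heNB : e ∈ B.NB := he ▸ mul_mem (B.ws_mem_NB g.ne_zero) (B.ws_mem_NB one_ne_zero)
  have hde : qq ⟨e, heNB⟩ = d := by
    rw [hd, hQ, hQ, hq, hq, ← map_mul]; exact congrArg qq (Subtype.ext he)
  have hpe : ∀ j : ℕ, ∃ τ c, IsMM (B.σ (e ^ j)) τ c (((g : W a b) / star (g : W a b)) ^ j) false := by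
    intro j
    induction j with
    | zero => exact ⟨_, _, by rw [pow_zero, map_one, pow_zero]; exact isMM_one⟩
    | succ j ih =>
      obtain ⟨τ, c, hj⟩ := ih
      have h1 := (B.isMM_ws B.iL g.ne_zero).mul (B.isMM_ws B.iL one_ne_zero)
      rw [← map_mul, ← he] at h1
      have h2 := hj.mul h1
      rw [← map_mul, ← pow_succ, Bool.xor_self, Bool.xor_self,
        show act (((g : W a b) / star (g : W a b)) ^ j) false (act (-((g : W a b) / star (g : W a b))) true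
          (-(1 / star 1))) = ((g : W a b) / star (g : W a b)) ^ (j + 1) by
          simp [act, pow_succ]] at h2
      exact ⟨_, _, h2⟩
  rcases hk with hk | hk
  · obtain ⟨d', hd', hx'⟩ : ∃ d' ∈ B.ND, x = d' * e ^ k' := by
      refine ⟨x * (e ^ k')⁻¹, (hker (⟨x, hx⟩ * (⟨e, heNB⟩ ^ k')⁻¹)).1 ?_, by group⟩
      rw [map_mul, map_inv, map_pow, hde, hk', hk, mul_inv_cancel]
    obtain ⟨τd, cd, hdm⟩ := B.ND_isMM hd'
    obtain ⟨τe, ce, hem⟩ := hpe k'
    have hxm := hdm.mul hem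
    rw [← map_mul, ← hx', act_one, Bool.xor_self] at hxm
    have hμ := (mm_unique' h hxm).1
    have hstar : star ((g : W a b) ^ k') = (g : W a b) ^ k' := by
      rw [div_pow, eq_comm (a := (1 : W a b)), div_eq_one_iff_eq (pow_ne_zero _ (star_ne g.ne_zero))] at hμ
      rw [star_pow]; exact hμ.symm
    have him : ((g : W a b) ^ k').im = 0 := by
      by_contra hne
      obtain ⟨u, hu⟩ : ∃ u, u = (g : W a b) ^ k' := ⟨_, rfl⟩
      rw [← hu] at hne hstar
      have e1 := congrArg QuadraticAlgebra.im hstar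
      have e2 := congrArg QuadraticAlgebra.re hstar
      simp at e1 e2
      have h2 : (2 : F) = 0 :=
        (mul_eq_zero.1 (show (2 : F) * u.im = 0 by linear_combination -e1)).resolve_right hne
      exact a_ne_zero (a := a) (b := b) h2 (e2.resolve_right hne)
    have hQk : Q (g ^ k') = Q 1 := by
      rw [hQ, hQ]
      refine hsmul _ _ ((g : W a b) ^ k').re ?_
      simp only [Units.val_pow_eq_pow_val, Units.val_one]
      ext <;> simp [him, QuadraticAlgebra.re_one, QuadraticAlgebra.im_one]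
    rw [hpow, zpow_natCast, hk', mul_eq_right] at hQk
    rw [hQk] at hk
    exact (hker ⟨x, hx⟩).1 hk
  · exfalso
    obtain ⟨d', hd', hx'⟩ : ∃ d' ∈ B.ND, x = d' * (e ^ k' * B.ws B.iL 1) := by
      refine ⟨x * (e ^ k' * B.ws B.iL 1)⁻¹,
        (hker (⟨x, hx⟩ * (⟨e, heNB⟩ ^ k' * ⟨_, B.ws_mem_NB one_ne_zero⟩)⁻¹)).1 ?_, by group⟩
      rw [map_mul, map_inv, map_mul, map_pow, hde, hk', hk, hQ, hq]
      exact mul_inv_cancel _
    obtain ⟨τd, cd, hdm⟩ := B.ND_isMM hd'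
    obtain ⟨τe, ce, hem⟩ := hpe k'
    have hxm := hdm.mul (hem.mul (B.isMM_ws B.iL one_ne_zero))
    rw [← map_mul, ← map_mul, ← hx'] at hxm
    simpa using (mm_unique' h hxm).2

/-- The nodes. -/
abbrev NdB (m : ℕ) : Type := {k : Fin m × Fin m // (k.1 : ℕ) + 1 = k.2} ⊕ Unit

/-- The simple roots. -/
def alphaB (B : BMExt m a b Γ) : NdB m → RB m
  | .inl k => .inl ⟨(.inl k.1.1, .inr k.1.2), ok_of_lev fun e => by
      have := k.2; simp only [lev, Sum.elim_inl, Sum.elim_inr] at e; omega⟩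
  | .inr _ => .inr B.iL

theorem alphaB_ht (i : NdB m) : htB (B.alphaB i) = 1 := by
  have := B.three
  rcases i with k | k
  · have := k.2; simp only [htB, alphaB, hB, Sum.elim_inl, Sum.elim_inr]; omega
  · simp only [htB, alphaB, hB, iL, Sum.elim_inl, Sum.elim_inr]; omega

theorem swap_bar (a x : I) : Equiv.swap a (bar a) (bar x) = bar (Equiv.swap a (bar a) x) := by
  by_cases i1 : x = a
  · subst i1; simp [bar_bar]
  by_cases i2 : x = bar a
  · subst i2; simp [bar_bar]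
  rw [Equiv.swap_apply_of_ne_of_ne i1 i2, Equiv.swap_apply_of_ne_of_ne]
  · exact fun e => i2 (by rw [← e, bar_bar])
  · exact fun e => i1 (bar_inj e)

/-- The signed permutation of a node. -/
def npB (B : BMExt m a b Γ) : NdB m → Equiv.Perm (Fin m ⊕ Fin m)
  | .inl k => wPerm (.inl k.1.1) (.inr k.1.2)
  | .inr _ => Equiv.swap B.iL (bar B.iL)

theorem node_lev (k : {k : Fin m × Fin m // (k.1 : ℕ) + 1 = k.2}) :
    lev (Sum.inl k.1.1 : I) ≠ lev (Sum.inr k.1.2 : I) := fun e => by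
  have := k.2; simp only [lev, Sum.elim_inl, Sum.elim_inr] at e; omega

theorem npB_bar (i : NdB m) (x : I) : B.npB i (bar x) = bar (B.npB i x) := by
  rcases i with k | k
  · exact wPerm_bar (node_lev k) x
  · exact swap_bar _ x

/-- The permutation of roots of a node. -/
def piB (i : NdB m) : Equiv.Perm (RB m) := Equiv.sumCongr (rperm (B.npB i) (B.npB_bar i)) (B.npB i)

theorem long_hgt (k : {k : Fin m × Fin m // (k.1 : ℕ) + 1 = k.2}) (x : I) :
    hB x - 1 ≤ hB (B.npB (.inl k) x) ∧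
      (x ≠ .inl k.1.1 → x ≠ .inr k.1.2 → hB x ≤ hB (B.npB (.inl k) x)) := by
  have h1 : hB (Sum.inl k.1.1 : I) + hB (Sum.inr k.1.2 : I) = 1 := by
    have := k.2; rw [hB_inl, hB_inr]; omega
  simp only [npB]
  generalize ha : (Sum.inl k.1.1 : I) = a
  generalize hb : (Sum.inr k.1.2 : I) = b
  have h : lev a ≠ lev b := ha ▸ hb ▸ node_lev k
  rw [ha, hb] at h1
  rw [wPerm_apply h]
  split_ifs with i1 i2 i3 i4
  · subst i1; rw [hB_bar]; exact ⟨by omega, fun _ _ => by omega⟩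
  · subst i2; rw [hB_bar]; exact ⟨by omega, fun e => absurd rfl e⟩
  · subst i3; rw [hB_bar]; exact ⟨by omega, fun _ _ => by omega⟩
  · subst i4; rw [hB_bar]; exact ⟨by omega, fun _ e => absurd rfl e⟩
  · exact ⟨by omega, fun _ _ => le_rfl⟩

theorem short_hgt (x : I) :
    hB x - 2 ≤ hB (Equiv.swap B.iL (bar B.iL) x) ∧ (x ≠ B.iL → hB x ≤ hB (Equiv.swap B.iL (bar B.iL) x)) := by
  have hL : hB B.iL = 1 := B.alphaB_ht (.inr ())
  rw [Equiv.swap_apply_def]
  split_ifs with i1 i2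
  · subst i1; rw [hB_bar]; exact ⟨by omega, fun e => absurd rfl e⟩
  · subst i2; rw [hB_bar]; exact ⟨by omega, fun _ => by omega⟩
  · exact ⟨by omega, fun _ => le_rfl⟩

theorem short_long_ok {p q : I} (h : lev p ≠ lev q) (hp : 0 < hB p + hB q) :
    0 < hB (Equiv.swap B.iL (bar B.iL) p) + hB (Equiv.swap B.iL (bar B.iL) q) := by
  have hL : hB B.iL = 1 := B.alphaB_ht (.inr ())
  have h3 := hB_sum_ne (p := Equiv.swap B.iL (bar B.iL) p) (q := Equiv.swap B.iL (bar B.iL) q) (by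
    intro e
    rcases lev_eq e with e | e
    · exact h (by rw [(Equiv.injective _) e])
    · rw [← swap_bar] at e; exact h (by rw [(Equiv.injective _) e, lev_bar]))
  by_cases e1 : p = B.iL
  · have hq := (B.short_hgt q).2 (fun e => h (by rw [e1, e]))
    have := hB_ne q
    rw [e1, Equiv.swap_apply_left, hB_bar] at h3 ⊢
    rw [e1] at hp
    omega
  by_cases e2 : q = B.iL
  · have hq := (B.short_hgt p).2 e1
    have := hB_ne p
    rw [e2, Equiv.swap_apply_left, hB_bar] at h3 ⊢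
    rw [e2] at hp
    omega
  have := (B.short_hgt p).2 e1
  have := (B.short_hgt q).2 e2
  omega

theorem XB_piB (i : NdB m) :
    B.XB (B.piB i (B.alphaB i)) = B.XB (negB (B.alphaB i)) ∧
      B.XB (B.piB i (negB (B.alphaB i))) = B.XB (B.alphaB i) := by
  rcases i with k | k
  · obtain ⟨a, ha⟩ : ∃ a : I, a = .inl k.1.1 := ⟨_, rfl⟩
    obtain ⟨b, hb⟩ : ∃ b : I, b = .inr k.1.2 := ⟨_, rfl⟩
    have h : lev a ≠ lev b := ha ▸ hb ▸ node_lev k
    have h' : lev (bar a) ≠ lev (bar b) := by rwa [lev_bar, lev_bar]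
    have g3 : b ≠ a := fun e => h (by rw [e])
    have va : wPerm a b a = bar b := wPerm_left h
    have vb : wPerm a b b = bar a := by
      rw [wPerm_apply h, if_neg (bar_ne b).symm, if_neg g3, if_neg (fun e => h (by rw [e, lev_bar])),
        if_pos rfl]
    constructor
    · show B.XRB (wPerm (.inl k.1.1) (.inr k.1.2) (.inl k.1.1)) (wPerm (.inl k.1.1) (.inr k.1.2) (.inr k.1.2)) =
        B.XRB (bar (.inl k.1.1)) (bar (.inr k.1.2))
      rw [← ha, ← hb, va, vb, B.XRB_swap h']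
    · show B.XRB (wPerm (.inl k.1.1) (.inr k.1.2) (bar (.inl k.1.1)))
        (wPerm (.inl k.1.1) (.inr k.1.2) (bar (.inr k.1.2))) = B.XRB (.inl k.1.1) (.inr k.1.2)
      rw [← ha, ← hb, wPerm_bar h, wPerm_bar h, va, vb, bar_bar, bar_bar, B.XRB_swap h]
  · constructor
    · show B.YR (Equiv.swap B.iL (bar B.iL) B.iL) = B.YR (bar B.iL)
      rw [Equiv.swap_apply_left]
    · show B.YR (Equiv.swap B.iL (bar B.iL) (bar B.iL)) = B.YR B.iL
      rw [Equiv.swap_apply_right]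

theorem pi2B (i : NdB m) (r : RB m) (h : 2 ≤ htB r) : 0 < htB (B.piB i r) := by
  rcases i with k | k <;> rcases r with r | x
  · have h3 := hB_sum_ne (lev_rt (rperm (B.npB (.inl k)) (B.npB_bar (.inl k)) r))
    simp only [rperm_apply] at h3
    have := (B.long_hgt k r.1.1).1
    have := (B.long_hgt k r.1.2).1
    simp only [htB, piB, Equiv.sumCongr_apply, Sum.map_inl, Sum.elim_inl, rperm_apply] at h ⊢
    omega
  · have := (B.long_hgt k x).1
    simp only [htB, piB, Equiv.sumCongr_apply, Sum.map_inr, Sum.elim_inr] at h ⊢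
    omega
  · simp only [htB, piB, Equiv.sumCongr_apply, Sum.map_inl, Sum.elim_inl, rperm_apply] at h ⊢
    exact B.short_long_ok (lev_rt r) (by omega)
  · have hL : hB B.iL = 1 := B.alphaB_ht (.inr ())
    simp only [htB, piB, npB, Equiv.sumCongr_apply, Sum.map_inr, Sum.elim_inr] at h ⊢
    have := (B.short_hgt x).2 (fun e => by rw [e] at h; omega)
    omega

theorem pi1B (i : NdB m) (r : RB m) (hr : 0 < htB r) (hn : ¬ 0 < htB (B.piB i r)) :
    B.XB r = B.XB (B.alphaB i) := by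
  rcases i with k | k <;> rcases r with r | x
  · have h3 := hB_sum_ne (lev_rt (rperm (B.npB (.inl k)) (B.npB_bar (.inl k)) r))
    simp only [rperm_apply] at h3
    simp only [htB, piB, Equiv.sumCongr_apply, Sum.map_inl, Sum.elim_inl, rperm_apply] at hr hn
    have hb1 := B.long_hgt k r.1.1
    have hb2 := B.long_hgt k r.1.2
    have hp : r.1.1 = .inl k.1.1 ∨ r.1.1 = .inr k.1.2 := by
      by_contra hc; simp only [not_or] at hc
      have := hb1.2 hc.1 hc.2; omega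
    have hq : r.1.2 = .inl k.1.1 ∨ r.1.2 = .inr k.1.2 := by
      by_contra hc; simp only [not_or] at hc
      have := hb2.2 hc.1 hc.2; omega
    have hne : r.1.1 ≠ r.1.2 := r.2.1
    show B.XRB r.1.1 r.1.2 = B.XRB (.inl k.1.1) (.inr k.1.2)
    rcases hp with e1 | e1 <;> rcases hq with e2 | e2
    · exact absurd (e1.trans e2.symm) hne
    · rw [e1, e2]
    · rw [e1, e2, B.XRB_swap (node_lev k)]
    · exact absurd (e1.trans e2.symm) hne
  · have hb := (B.long_hgt k x).1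
    have h3 := hB_ne (B.npB (.inl k) x)
    simp only [htB, piB, Equiv.sumCongr_apply, Sum.map_inr, Sum.elim_inr] at hr hn
    exfalso; omega
  · simp only [htB, piB, Equiv.sumCongr_apply, Sum.map_inl, Sum.elim_inl, rperm_apply] at hr hn
    exact absurd (B.short_long_ok (lev_rt r) hr) hn
  · simp only [htB, piB, npB, Equiv.sumCongr_apply, Sum.map_inr, Sum.elim_inr] at hr hn
    show B.YR x = B.YR B.iL
    by_cases e : x = B.iL
    · rw [e]
    · have := (B.short_hgt x).2 e; exfalso; omega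

theorem XL_mem_V {p q : I} (h : lev p ≠ lev q) {k : ℤ} (hk : k ≤ hB p + hB q) (t : F) :
    B.XL p q t ∈ V htB B.XB k := by
  have := le_V (ht := htB) (X := B.XB) (r := (.inl ⟨(p, q), ok_of_lev h⟩ : RB m)) (k := k) hk
  exact this ((B.mem_XRB h).2 ⟨t, rfl⟩)

theorem Y_mem_V {p : I} {k : ℤ} (hk : k ≤ hB p) (z : W a b) : B.Y p z ∈ V htB B.XB k := by
  have := le_V (ht := htB) (X := B.XB) (r := (.inr p : RB m)) (k := k) hk
  exact this (B.mem_YR.2 ⟨z, rfl⟩)

theorem comm_LL {a' b' c d : I} (hab : lev a' ≠ lev b') (hcd : lev c ≠ lev d) (h1 : 0 < hB a' + hB b')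
    (h2 : 0 < hB c + hB d) (t u : F) :
    ⁅B.XL a' b' t, B.XL c d u⁆ ∈ V htB B.XB (hB a' + hB b' + (hB c + hB d)) := by
  have one : ∀ {p q r s : I} (_ : lev p ≠ lev q) (_ : lev r ≠ lev s), 0 < hB p + hB q → 0 < hB r + hB s →
      bar q = r → ∀ t u, ⁅B.XL p q t, B.XL r s u⁆ ∈ V htB B.XB (hB p + hB q + (hB r + hB s)) := by
    intro p q r s hpq hrs hp hr e t u
    subst e
    by_cases hps : lev p = lev s
    · rcases lev_eq hps with e | e
      · subst e
        rw [B.XL_swap (p := p) (q := bar q) hrs.symm u,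
          commutatorElement_eq_one_iff_commute.2 (show Commute (B.XL p q t) (B.XL p (bar q) (-u)) by
            rw [← B.XL_eq_X hpq, ← B.XL_eq_X (show lev p ≠ lev (bar q) by rwa [lev_bar])]
            exact congrArg Subtype.val (X_opp B.D hpq t (-u)))]
        exact one_mem _
      · exfalso; subst e; rw [hB_bar] at hp hr; omega
    rw [show q = bar (bar q) from (bar_bar q).symm] at hpq ⊢
    rw [bar_bar (bar q), B.XL_rel hps (by rwa [lev_bar] at hpq) hrs]
    refine B.XL_mem_V hps ?_ _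
    rw [hB_bar, hB_bar]
    omega
  by_cases e1 : bar b' = c
  · exact one hab hcd h1 h2 e1 t u
  by_cases e2 : bar b' = d
  · rw [B.XL_swap hcd.symm u, add_comm (hB c)]
    exact one hab hcd.symm h1 (by omega) e2 t _
  by_cases e3 : bar a' = c
  · rw [B.XL_swap hab.symm t, add_comm (hB a')]
    exact one hab.symm hcd (by omega) h2 e3 _ u
  by_cases e4 : bar a' = d
  · rw [B.XL_swap hab.symm t, B.XL_swap hcd.symm u, add_comm (hB a'), add_comm (hB c)]
    exact one hab.symm hcd.symm (by omega) (by omega) e4 _ _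
  rw [commutatorElement_eq_one_iff_commute.2 (B.XL_comm hab hcd e1 e2 e3 e4 t u)]
  exact one_mem _

theorem comm_LS {a' b' c : I} (hab : lev a' ≠ lev b') (h1 : 0 < hB a' + hB b') (h2 : 0 < hB c) (t : F) (u : W a b) :
    ⁅B.XL a' b' t, B.Y c u⁆ ∈ V htB B.XB (hB a' + hB b' + hB c) := by
  have one : ∀ {p q : I}, lev p ≠ lev q → ∀ t, 0 < hB c → bar q = c →
      ⁅B.XL p q t, B.Y c u⁆ ∈ V htB B.XB (hB p + hB q + hB c) := by
    intro p q hpq t hc e
    subst e
    have h := B.XL_Y_rel (p := p) (q := bar q) (by rwa [lev_bar]) t u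
    rw [bar_bar] at h
    rw [h]
    rw [hB_bar] at hc
    refine mul_mem (B.Y_mem_V (by rw [hB_bar]; omega) _) (B.XL_mem_V (by rwa [lev_bar]) ?_ _)
    rw [hB_bar]; omega
  by_cases e1 : bar b' = c
  · exact one hab t h2 e1
  by_cases e2 : bar a' = c
  · rw [B.XL_swap hab.symm t, add_comm (hB a')]
    exact one hab.symm _ h2 e2
  rw [commutatorElement_eq_one_iff_commute.2 (B.XL_Y_comm hab e2 e1 t u)]
  exact one_mem _

theorem comm_SS {a' c : I} (h1 : 0 < hB a') (h2 : 0 < hB c) (t u : W a b) :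
    ⁅B.Y a' t, B.Y c u⁆ ∈ V htB B.XB (hB a' + hB c) := by
  by_cases e : lev a' = lev c
  · rcases lev_eq e with e | e
    · subst e
      rw [commutatorElement_eq_one_iff_commute.2 (B.L_comm_self (B.σ_Y a' t) (B.σ_Y a' u))]
      exact one_mem _
    · exfalso; subst e; rw [hB_bar] at h1; omega
  rw [B.Y_rel e]
  exact B.XL_mem_V e le_rfl _

theorem comm_ruleB (r s : RB m) (hr : 0 < htB r) (hs : 0 < htB s) :
    ∀ x ∈ B.XB r, ∀ y ∈ B.XB s, ⁅x, y⁆ ∈ V htB B.XB (htB r + htB s) := by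
  intro x hx y hy
  rcases r with r | a' <;> rcases s with s | c
  · obtain ⟨t, rfl⟩ := (B.mem_XRB (lev_rt r)).1 hx
    obtain ⟨u, rfl⟩ := (B.mem_XRB (lev_rt s)).1 hy
    exact B.comm_LL (lev_rt r) (lev_rt s) hr hs t u
  · obtain ⟨t, rfl⟩ := (B.mem_XRB (lev_rt r)).1 hx
    obtain ⟨u, rfl⟩ := B.mem_YR.1 hy
    exact B.comm_LS (lev_rt r) hr hs t u
  · obtain ⟨t, rfl⟩ := B.mem_YR.1 hx
    obtain ⟨u, rfl⟩ := (B.mem_XRB (lev_rt s)).1 hy
    rw [← commutatorElement_inv, add_comm (htB _)]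
    exact inv_mem (B.comm_LS (lev_rt s) hs hr u t)
  · obtain ⟨t, rfl⟩ := B.mem_YR.1 hx
    obtain ⟨u, rfl⟩ := B.mem_YR.1 hy
    exact B.comm_SS hr hs t u

/-- The group generated by the lifted root elements. -/
noncomputable def GB : Subgroup Γ :=
  Subgroup.closure {x | (∃ p q, lev p ≠ lev q ∧ ∃ t, B.XL p q t = x) ∨ ∃ p z, B.Y p z = x}

theorem gen_simpleB (G : Subgroup Γ) (hA : ∀ i, B.XB (B.alphaB i) ≤ G)
    (hN : ∀ i, B.XB (negB (B.alphaB i)) ≤ G) : B.GB ≤ G := by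
  have sw : ∀ {p q : I}, lev p ≠ lev q → (∀ t, B.XL p q t ∈ G) → ∀ t, B.XL q p t ∈ G := fun h hG t => by
    rw [B.XL_swap h]; exact hG _
  have hlin : ∀ i j : Fin m, i ≠ j → ∀ t, B.XL (Sum.inl i) (Sum.inr j) t ∈ G := by
    have hall := CurtisTitsA.gen_adjacent ((G.comap B.DS.subtype).comap (f B.D isSec_inl)) (M := m) le_rfl
      (fun k hk c => by
        rw [Subgroup.mem_comap, ← X_eq_f B.D isSec_inl (a := Sum.inl (⟨k, by omega⟩ : Fin m))
          (b := Sum.inr (⟨k + 1, hk⟩ : Fin m)) (fun e => by simp [Fin.ext_iff] at e) rfl rfl c,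
          Subgroup.mem_comap, Subgroup.coe_subtype, B.XL_eq_X (by simp [lev])]
        exact hA (.inl ⟨(⟨k, by omega⟩, ⟨k + 1, hk⟩), rfl⟩) (Subgroup.subset_closure ⟨c, rfl⟩))
      (fun k hk c => by
        rw [Subgroup.mem_comap, ← X_eq_f B.D isSec_inl (a := Sum.inl (⟨k + 1, hk⟩ : Fin m))
          (b := Sum.inr (⟨k, by omega⟩ : Fin m)) (fun e => by simp [Fin.ext_iff] at e) rfl rfl c,
          Subgroup.mem_comap, Subgroup.coe_subtype, B.XL_eq_X (by simp [lev])]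
        refine sw (p := Sum.inr (⟨k, by omega⟩ : Fin m)) (q := Sum.inl (⟨k + 1, hk⟩ : Fin m))
          (by simp [lev]) (fun t => ?_) c
        exact hN (.inl ⟨(⟨k, by omega⟩, ⟨k + 1, hk⟩), rfl⟩) (Subgroup.subset_closure ⟨t, rfl⟩))
    intro i j hij t
    rw [← B.XL_eq_X (p := Sum.inl i) (q := Sum.inr j) (fun e => hij (Fin.ext e)),
      X_eq_f B.D isSec_inl hij (a := Sum.inl i) (b := Sum.inr j) rfl rfl]
    exact hall i j hij i.2 j.2 t
  have side : ∀ s : Fin m → I, IsSec s → (∀ i j, i ≠ j → ∀ t, B.XL (s i) (bar (s j)) t ∈ G) →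
      ∀ q : Fin m, (∀ z, B.Y (s q) z ∈ G) →
        (∀ i z, B.Y (s i) z ∈ G) ∧ ∀ i j, i ≠ j → ∀ t, B.XL (s i) (s j) t ∈ G := by
    intro s hs hl q hq
    have hY : ∀ i z, B.Y (s i) z ∈ G := by
      intro i z
      by_cases h : i = q
      · subst h; exact hq z
      have hne := hs.lev_ne h
      have hZ : ∀ v : W a b, B.Y (s i) v * B.XL (s i) (s q) v.norm ∈ G := fun v => by
        have := B.XL_Y_rel hne 1 v
        rw [one_smul, one_mul] at this
        rw [← this, commutatorElement_def]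
        exact mul_mem (mul_mem (mul_mem (hl i q h 1) (hq v)) (inv_mem (hl i q h 1))) (inv_mem (hq v))
      have hX : ∀ w, B.XL (s i) (s q) w ∈ G := fun w => by
        obtain ⟨v, hv⟩ : ∃ v, v = w • (1 : W a b) := ⟨_, rfl⟩
        have hc : Commute (B.XL (s i) (s q) v.norm) (B.Y (s q) B.w₀) :=
          B.XL_Y_comm hne (fun e => hne (by rw [← e, lev_bar])) (bar_ne _) _ _
        have e : ⁅B.Y (s i) v * B.XL (s i) (s q) v.norm, B.Y (s q) B.w₀⁆ = B.XL (s i) (s q) w := by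
          rw [show ⁅B.Y (s i) v * B.XL (s i) (s q) v.norm, B.Y (s q) B.w₀⁆ = B.Y (s i) v *
              ⁅B.XL (s i) (s q) v.norm, B.Y (s q) B.w₀⁆ * (B.Y (s i) v)⁻¹ * ⁅B.Y (s i) v, B.Y (s q) B.w₀⁆ by
            simp only [commutatorElement_def]; group, commutatorElement_eq_one_iff_commute.2 hc, mul_one,
            mul_inv_cancel, one_mul, B.Y_rel hne, hv, B.Bp_w₀, neg_neg]
        rw [← e, commutatorElement_def]
        exact mul_mem (mul_mem (mul_mem (hZ v) (hq _)) (inv_mem (hZ v))) (inv_mem (hq _))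
      have := mul_mem (hZ z) (inv_mem (hX z.norm))
      rwa [mul_inv_cancel_right] at this
    refine ⟨hY, fun i j hij t => ?_⟩
    rw [show t = -Bp (t • (1 : W a b)) B.w₀ by rw [B.Bp_w₀, neg_neg], ← B.Y_rel (hs.lev_ne hij),
      commutatorElement_def]
    exact mul_mem (mul_mem (mul_mem (hY i _) (hY j _)) (inv_mem (hY i _))) (inv_mem (hY j _))
  set q : Fin m := ⟨m - 1, by have := B.three; omega⟩
  have hp := side (fun i => Sum.inl i) isSec_inl hlin q
    (fun t => hA (.inr ()) (Subgroup.subset_closure ⟨t, rfl⟩))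
  have hn := side (fun i => Sum.inr i) (fun _ => rfl)
    (fun i j hij t => sw (p := Sum.inl j) (q := Sum.inr i) (fun e => hij (Fin.ext e).symm) (hlin j i hij.symm) t)
    q (fun t => hN (.inr ()) (Subgroup.subset_closure ⟨t, rfl⟩))
  rw [GB, Subgroup.closure_le]
  rintro _ (⟨p, q, hpq, t, rfl⟩ | ⟨p, t, rfl⟩)
  · rcases p with i | i <;> rcases q with j | j
    · exact hp.2 i j (fun e => hpq (by subst e; rfl)) t
    · exact hlin i j (fun e => hpq (by subst e; rfl)) t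
    · exact sw (p := Sum.inl j) (q := Sum.inr i) hpq.symm (hlin j i (fun e => hpq (by subst e; rfl))) t
    · exact hn.2 i j (fun e => hpq (by subst e; rfl)) t
  · rcases p with i | i
    · exact hp.1 i t
    · exact hn.1 i t

/-- Moving coordinates only by lower ones, the plane lying in height zero. -/
def Upper (g : GM m a b) : Prop :=
  ∀ v : (Fin m ⊕ Fin m) ⊕ Fin 2 → F,
    (∀ x : Fin m ⊕ Fin m, (∀ z, hB z < hB x → hy v z = 0) → (0 < hB x → wp a b v = 0) →
      hy (gact g v) x = hy v x) ∧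
    ((∀ z, hB z < 0 → hy v z = 0) → wp a b (gact g v) = wp a b v)

theorem Upper.mul {g h : GM m a b} (hg : Upper g) (hh : Upper h) : Upper (g * h) := fun v => by
  refine ⟨fun x h1 h2 => ?_, fun h1 => ?_⟩
  · have k1 : ∀ z, hB z < hB x → hy (gact h v) z = 0 := fun z hz => by
      rw [(hh v).1 z (fun z' hz' => h1 z' (hz'.trans hz)) (fun hz0 => h2 (hz0.trans hz)), h1 z hz]
    have k2 : 0 < hB x → wp a b (gact h v) = 0 := fun h0 => by
      rw [(hh v).2 (fun z hz => h1 z (hz.trans h0)), h2 h0]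
    rw [gact_mul, (hg _).1 x k1 k2, (hh v).1 x h1 h2]
  · have k1 : ∀ z, hB z < 0 → hy (gact h v) z = 0 := fun z hz => by
      rw [(hh v).1 z (fun z' hz' => h1 z' (hz'.trans hz)) (fun h0 => absurd hz (not_lt.2 h0.le)), h1 z hz]
    rw [gact_mul, (hg _).2 k1, (hh v).2 h1]

theorem UB_upper {g : Γ} (hg : g ∈ B.UB 0) : Upper (B.σ g) := by
  have gen : ∀ x ∈ B.ugens 0, Upper (B.σ x) := by
    rintro _ ⟨i, -, ⟨y, hy', t, rfl⟩ | ⟨z, rfl⟩⟩ v
    · have hl : lev (Sum.inl i : I) ≠ lev y := lev_lt_ne hy'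
      have hpos : 0 < hB (Sum.inl i : I) + hB y := by
        rcases y with j | j <;> simp only [lev, Sum.elim_inl, Sum.elim_inr] at hy' <;>
          simp only [hB, Sum.elim_inl, Sum.elim_inr] <;> have := j.2 <;> omega
      rw [B.σ_XL (ok_of_lev hl)]
      refine ⟨fun x h1 _ => ?_, fun _ => by rw [wp_emb]⟩
      rw [hy_el]
      split_ifs with k1 k2 k2
      · exact absurd (k1.symm.trans k2) (fun e => hl (by rw [e]))
      · subst k1; rw [h1 (bar y) (by rw [hB_bar]; omega)]; ring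
      · subst k2; rw [h1 (bar (Sum.inl i)) (by rw [hB_bar]; omega)]; ring
      · ring
    · have hpos : 0 < hB (Sum.inl i : I) := by simp only [hB, Sum.elim_inl]; have := i.2; omega
      rw [B.σ_Y]
      refine ⟨fun x h1 h2 => ?_, fun h1 => ?_⟩
      · rw [hy_sh]
        split_ifs with k1
        · subst k1
          rw [h1 (bar (Sum.inl i)) (by rw [hB_bar]; omega), h2 hpos]
          simp [Bp]
        · ring
      · rw [wp_sh, h1 (bar (Sum.inl i)) (by rw [hB_bar]; omega), zero_smul, add_zero]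
  induction hg using Subgroup.closure_induction'' with
  | one => rw [map_one]; exact fun v => ⟨fun x _ _ => by rw [gact_one], fun _ => by rw [gact_one]⟩
  | mem z hz => exact gen z hz
  | inv_mem z hz =>
    refine gen _ ?_
    obtain ⟨i, hi, ⟨y, hy', t, rfl⟩ | ⟨u, rfl⟩⟩ := hz
    · exact ⟨i, hi, Or.inl ⟨y, hy', -t, (B.XL_inv (lev_lt_ne hy') t).symm⟩⟩
    · exact ⟨i, hi, Or.inr ⟨-u, (B.Y_inv _ u).symm⟩⟩
  | mul p q _ _ hp hq => rw [map_mul]; exact hp.mul hq

theorem V_le_UB : V htB B.XB 1 ≤ B.UB 0 := by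
  refine V_le fun r hr => ?_
  have key : ∀ (i : Fin m) (y : I), (i : ℕ) < lev y → B.XRB (Sum.inl i) y ≤ B.UB 0 := fun i y hy' => by
    rw [XRB, Subgroup.closure_le]
    rintro _ ⟨t, rfl⟩
    exact Subgroup.subset_closure ⟨i, Nat.zero_le _, Or.inl ⟨y, hy', t, rfl⟩⟩
  rcases r with ⟨⟨p, q⟩, h⟩ | p
  · show B.XRB p q ≤ _
    have hl : lev p ≠ lev q := lev_ne_of_ok h
    simp only [htB, Sum.elim_inl] at hr
    rcases p with i | i <;> rcases q with j | j <;> simp only [hB, Sum.elim_inl, Sum.elim_inr] at hr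
    · rcases lt_or_gt_of_ne (fun e => hl (show (i : ℕ) = j from e)) with h' | h'
      · exact key i _ h'
      · rw [← B.XRB_swap hl]; exact key j _ h'
    · exact key i _ (show (i : ℕ) < j by omega)
    · rw [← B.XRB_swap hl]; exact key j _ (show (j : ℕ) < i by omega)
    · exfalso; have := i.2; have := j.2; omega
  · show B.YR p ≤ _
    simp only [htB, Sum.elim_inr] at hr
    rcases p with i | i
    · rw [YR, Subgroup.closure_le]
      rintro _ ⟨z, rfl⟩
      exact Subgroup.subset_closure ⟨i, Nat.zero_le _, Or.inr ⟨z, rfl⟩⟩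
    · exfalso; simp only [hB, Sum.elim_inr] at hr; have := i.2; omega

/-- The candidate kernel element. -/
noncomputable def zzB : Γ := (zz B.D : B.DS)

/-- The kernel of the projection on the group of lifted root elements. -/
theorem GB_ker {g : Γ} (hg : g ∈ B.GB) (h1 : B.σ g = 1) : g = 1 ∨ g = B.zzB := by
  let Wset : NdB m → Set Γ := fun i => match i with
    | .inl k => {x | ∃ t : F, t ≠ 0 ∧ B.wL (.inl k.1.1) (.inr k.1.2) t = x}
    | .inr _ => {x | ∃ z : W a b, z ≠ 0 ∧ B.ws B.iL z = x}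
  obtain ⟨p, hp, n, hn, q, hq, rfl⟩ := cover (R := RB m) htB
    (fun r => by rcases r with r | x; exacts [hB_sum_ne (lev_rt r), hB_ne x]) negB
    (fun r => by
      rcases r with r | x
      · simp only [htB, negB, Sum.map_inl, Sum.elim_inl, CurtisTitsD.rneg, hB_bar]; ring
      · simp only [htB, negB, Sum.map_inr, Sum.elim_inr, hB_bar]) B.XB B.alphaB B.alphaB_ht B.piB
    (fun i => (B.XB_piB i).1) (fun i => (B.XB_piB i).2) Wset
    (fun i x hx r => by
      rcases i with k | k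
      · obtain ⟨t, ht, rfl⟩ := hx
        exact B.mon_mapB (B.isMM_wL (node_lev k) ht) r
      · obtain ⟨t, ht, rfl⟩ := hx
        exact B.mon_mapB (B.isMM_ws B.iL ht) r)
    B.pi2B B.pi1B
    (fun i x hx => by
      rcases i with k | k
      · have h := node_lev k
        have h' : lev (bar (Sum.inl k.1.1 : I)) ≠ lev (bar (Sum.inr k.1.2 : I)) := by rwa [lev_bar, lev_bar]
        obtain ⟨t, rfl⟩ := (B.mem_XRB h').1 hx
        by_cases ht : t = 0
        · exact Or.inl (by rw [ht, B.XL_zero h'])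
        · exact Or.inr ⟨_, (B.mem_XRB h).2 ⟨-t⁻¹, rfl⟩, _, ⟨t⁻¹, inv_ne_zero ht, rfl⟩, _,
            (B.mem_XRB h).2 ⟨-t⁻¹, rfl⟩, by rw [B.wL_eq h, inv_inv, ← B.XL_inv h]; group⟩
      · obtain ⟨t, rfl⟩ := B.mem_YR.1 hx
        by_cases ht : t = 0
        · exact Or.inl (by rw [ht, B.Y_zero])
        · obtain ⟨z, hz, e⟩ := B.Y_bar_decomp B.iL ht
          exact Or.inr ⟨_, B.mem_YR.2 ⟨-z, rfl⟩, _, ⟨z, hz, rfl⟩, _, B.mem_YR.2 ⟨-z, rfl⟩, e⟩)
    B.comm_ruleB B.NB
    (fun i x hx => by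
      rcases i with k | k
      · obtain ⟨t, ht, rfl⟩ := hx
        exact B.ND_le_NB (B.wL_mem_ND (node_lev k) ht)
      · obtain ⟨t, ht, rfl⟩ := hx
        exact B.ws_mem_NB ht)
    (fun n hn => by
      obtain ⟨τ, c, μ, s, h⟩ := B.NB_isMM hn
      refine ⟨_, fun r => ?_, B.mon_mapB h⟩
      rcases r with r | x
      · exact congrArg Sum.inl (Subtype.ext (Prod.ext (h.1 _) (h.1 _)))
      · exact congrArg Sum.inr (h.1 x))
    g (B.gen_simpleB _ (fun i => le_sup_left.trans (le_iSup (fun i => B.XB (B.alphaB i) ⊔ B.XB (negB (B.alphaB i))) i))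
      (fun i => le_sup_right.trans (le_iSup (fun i => B.XB (B.alphaB i) ⊔ B.XB (negB (B.alphaB i))) i)) hg)
  have hp' := B.V_le_UB hp
  have hq' := B.V_le_UB hq
  have hσn : Upper (B.σ n) := by
    have e : B.σ n = B.σ p⁻¹ * B.σ q⁻¹ := by
      rw [map_inv, map_inv, eq_inv_mul_iff_mul_eq, ← mul_eq_one_iff_eq_inv, ← map_mul, ← map_mul]
      exact h1
    rw [e]
    exact (B.UB_upper (inv_mem hp')).mul (B.UB_upper (inv_mem hq'))
  obtain ⟨τ, c, μ, s, hc⟩ := B.NB_isMM hn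
  have hdiag : ∀ i, τ i = i ∧ c i = 1 := fun i => by
    have h2 : hy (gact (B.σ n) (vmk (Pi.single i 1) (0 : W a b))) i = (Pi.single i 1 : I → F) i :=
      (hσn _).1 i (fun z hz => Pi.single_eq_of_ne (fun e => by subst e; exact lt_irrefl _ hz) _) (fun _ => rfl)
    obtain ⟨j, hj⟩ := τ.surjective i
    have h3 := (hc.2.2.2 (vmk (Pi.single i 1) (0 : W a b))).1 j
    rw [hj, h2, hy_vmk, Pi.single_eq_same] at h3
    by_cases e : j = i
    · subst e; rw [Pi.single_eq_same, mul_one] at h3; exact ⟨hj, h3.symm⟩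
    · rw [Pi.single_eq_of_ne e, mul_zero] at h3; exact absurd h3 one_ne_zero
  have hwp : ∀ u, act μ s u = u := fun u => by
    have h2 := (hσn (vmk 0 u)).2 (fun z _ => rfl)
    rwa [(hc.2.2.2 _).2, wp_vmk] at h2
  have hn1 : B.σ n = 1 := by
    refine ext_coord (fun v i => ?_) fun v => ?_
    · have := (hc.2.2.2 v).1 i
      rw [(hdiag i).1, (hdiag i).2, one_mul] at this
      rw [this, gact_one]
    · rw [(hc.2.2.2 v).2, hwp, gact_one]
  have hmc : n ∈ Subgroup.center Γ := B.central hn1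
  have hpq : p * q = 1 := by
    refine B.UB_inj (k := 0) (mul_mem hp' hq') ?_
    rw [← h1, map_mul, map_mul, map_mul, hn1, mul_one]
  have e : p * n * q = n := by
    rw [Subgroup.mem_center_iff.1 hmc p, mul_assoc, hpq, mul_one]
  rw [e]
  obtain ⟨d, hd, rfl⟩ := B.NB_plane hn (τ := 1) (c := fun _ => 1) (by rw [hn1]; exact isMM_one)
  have hd1 : B.σD d = 1 := emb_injective (a := a) (b := b) (by rw [B.emb_σD, map_one]; exact hn1)
  have hT := Ngp_trivial B.D hd ⟨fun _ => 1, by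
    show IsMonO (B.σD d) 1 _; rw [hd1]; exact isMonO_one⟩
  rcases That_ker B.D hT hd1 with h | h
  · left; rw [h]; rfl
  · right; rw [h]; rfl

end Cfsg.Agent.DMult.Minus.BMExt
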