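import Cfsg.Agent.DMult.Minus.Cover
import Cfsg.Agent.DMult.Odd.Main
import Cfsg.Agent.S0791

/-!
The Schur multiplier of `PΩ⁻(2(m+1), q)`.
-/

set_option autoImplicit false
set_option linter.unusedSectionVars false
set_option linter.unusedSimpArgs false

open Matrix
open scoped commutatorElement

namespace Cfsg.Agent.DMult.Minus

open Chev.Ortho
open CurtisTitsD (ok_of_lev lev_ne_of_ok)

universe u

variable {F : Type u} [Field F] [Fintype F] {m : ℕ} {a b : F} [hab : Fact (Aniso a b)]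

/-- A fixed finite enumeration of the extension. -/
noncomputable local instance : Fintype (W a b) := Fintype.ofFinite _

local notation "Ω'" => Cfsg.Omega F (Cfsg.quadFormMinus m F a b)

open Classical.Quad QuadraticMap in
theorem center_cards_minus (hm : 3 ≤ m) :
    (((∃ g : GM m a b, g ∈ Ω' ∧ ((g : GL ((Fin m ⊕ Fin m) ⊕ Fin 2) F) : Matrix ((Fin m ⊕ Fin m) ⊕ Fin 2) ((Fin m ⊕ Fin m) ⊕ Fin 2) F) = -1) ∧ (2 : F) ≠ 0) →
      Nat.card (Subgroup.center Ω') = 2) ∧
    ((¬ (∃ g : GM m a b, g ∈ Ω' ∧ ((g : GL ((Fin m ⊕ Fin m) ⊕ Fin 2) F) : Matrix ((Fin m ⊕ Fin m) ⊕ Fin 2) ((Fin m ⊕ Fin m) ⊕ Fin 2) F) = -1) ∨ (2 : F) = 0) →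
      Nat.card (Subgroup.center Ω') = 1) := by
  have := card_center_omega (Q := Qm m a b) nondeg_Qm (by rw [finrank_V]; omega)
  rwa [coe_Qm] at this

theorem omega_mem_iff (hm : 3 ≤ m) {g : GM m a b} : g ∈ Ω' ↔ g ∈ Eg m a b := by
  rw [← omega_eq hm, Cfsg.Omega]

/-- A map onto `Ω` from the projection of an extension. -/
noncomputable def toOm {Γ : Type u} [Group Γ] [Finite Γ] (B : BMExt m a b Γ) (hr : B.σ.range ≤ Eg m a b) : Γ →* Ω' :=
  B.σ.codRestrict _ fun x => (omega_mem_iff B.three).2 (hr ⟨x, rfl⟩)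

theorem toOm_surj {Γ : Type u} [Group Γ] [Finite Γ] (B : BMExt m a b Γ) (hr : B.σ.range ≤ Eg m a b) :
    Function.Surjective (toOm B hr) := by
  rintro ⟨g, hg⟩
  have hle : Eg m a b ≤ B.σ.range := by
    rw [Eg, Subgroup.closure_le]
    rintro _ (⟨p, q, h, t, rfl⟩ | ⟨p, z, rfl⟩)
    · exact B.el_mem p q h t
    · exact B.sh_mem p z
  obtain ⟨x, hx⟩ := hle ((omega_mem_iff B.three).1 hg)
  exact ⟨x, Subtype.ext hx⟩

theorem subExt_range {Γ : Type u} [Group Γ] [Finite Γ] (B : BMExt m a b Γ) : (subExt B).σ.range ≤ Eg m a b := by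
  rintro _ ⟨x, rfl⟩
  have hle : B.GB ≤ (Eg m a b).comap B.σ := by
    rw [BMExt.GB, Subgroup.closure_le]
    rintro _ (⟨p, q, h, t, rfl⟩ | ⟨p, z, rfl⟩)
    · show B.σ _ ∈ Eg m a b; rw [B.σ_XL (ok_of_lev h)]; exact el_mem_Eg _ t
    · show B.σ _ ∈ Eg m a b; rw [B.σ_Y]; exact sh_mem_Eg p z
  exact hle x.2

theorem comm_mem_map {G : Type u} [Group G] (H : Subgroup G) {x y : G} (hx : x ∈ H) (hy : y ∈ H) :
    ⁅x, y⁆ ∈ (commutator H).map H.subtype :=
  ⟨⁅⟨x, hx⟩, ⟨y, hy⟩⁆, Subgroup.commutator_mem_commutator (Subgroup.mem_top _) (Subgroup.mem_top _),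
    by rw [map_commutatorElement]; rfl⟩

theorem omega_perfect (hm : 3 ≤ m) : commutator Ω' = ⊤ := by
  refine top_le_iff.1 fun x _ => ?_
  have hle : Eg m a b ≤ (commutator Ω').map (Cfsg.Omega F (Cfsg.quadFormMinus m F a b)).subtype := by
    rw [Eg, Subgroup.closure_le]
    have hel : ∀ {p q : Fin m ⊕ Fin m} (h : Ok p q) (t : F),
        emb (el h t) ∈ (commutator Ω').map (Cfsg.Omega F (Cfsg.quadFormMinus m F a b)).subtype := by
      intro p q h t
      obtain ⟨w, hw⟩ := exists_pair (a := a) (b := b)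
      have e := sh_rel (a := a) (b := b) (lev_ne_of_ok h) (t • (1 : W a b)) w
      rw [Bp_smul_left, hw, mul_neg_one, neg_neg] at e
      rw [← e]
      exact comm_mem_map _ ((omega_mem_iff hm).2 (sh_mem_Eg _ _)) ((omega_mem_iff hm).2 (sh_mem_Eg _ _))
    rintro _ (⟨p, q, h, t, rfl⟩ | ⟨p, z, rfl⟩)
    · exact hel h t
    · obtain ⟨q, hq, -⟩ := third hm p p
      have e := el_sh_rel (a := a) (b := b) (show lev p ≠ lev q from hq.symm) 1 z
      rw [one_smul, one_mul] at e
      rw [SetLike.mem_coe, show sh p z = ⁅emb (a := a) (b := b) (el (ok_of_lev (show lev p ≠ lev (bar q) by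
        rw [lev_bar]; exact hq.symm)) (1 : F)), sh q z⁆ * (emb (el (ok_of_lev hq.symm) z.norm))⁻¹ by
          rw [e, mul_inv_cancel_right]]
      refine mul_mem ?_ (inv_mem (hel _ _))
      exact comm_mem_map _ ((omega_mem_iff hm).2 (el_mem_Eg _ _)) ((omega_mem_iff hm).2 (sh_mem_Eg _ _))
  obtain ⟨y, hy, e⟩ := hle ((omega_mem_iff hm).1 x.2)
  rwa [← show y = x from Subtype.ext e]

/-- A central perfect extension of `Ω` in characteristic two is an isomorphism. -/
theorem ker_two (hm : 3 ≤ m) (h2 : (2 : F) = 0) {Γ : Type u} [Group Γ] [Finite Γ] (σ : Γ →* GM m a b)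
    (hc : σ.ker ≤ Subgroup.center Γ) (hP : commutator Γ = ⊤) (hr : σ.range = Eg m a b) : σ.ker = ⊥ := by
  let B : BMExt m a b Γ :=
    { σ := σ
      central := hc
      el_mem := fun p q h t => hr.ge (el_mem_Eg h t)
      sh_mem := fun p z => hr.ge (sh_mem_Eg p z)
      three := hm }
  have htop : B.GB = ⊤ := GB_eq_top B hP hr.le
  rw [eq_bot_iff]
  intro x hx
  rcases B.GB_ker (htop.ge (Subgroup.mem_top x)) hx with rfl | rfl
  · exact one_mem _
  · rw [show B.zzB = 1 from congrArg Subtype.val (zz_eq_one B.D h2)]; exact one_mem _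

/-- A stem extension of a perfect quotient by a trivial subgroup. -/
theorem stem_perfect {G Γ : Type u} [Group G] [Group Γ] (hG : commutator G = ⊤) {τ : Γ →* G}
    (hτ : Cfsg.IsStemExtension τ) : commutator Γ = ⊤ := by
  refine top_le_iff.1 fun g _ => ?_
  obtain ⟨d, hd, e⟩ : τ g ∈ (commutator Γ).map τ := by
    rw [commutator_def, Subgroup.map_commutator, Subgroup.map_top_of_surjective τ hτ.1, ← commutator_def, hG]
    exact Subgroup.mem_top _
  have : d⁻¹ * g ∈ commutator Γ := hτ.2.2 (by rw [MonoidHom.mem_ker, map_mul, map_inv, e, inv_mul_cancel])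
  simpa using mul_mem hd this

/-- Trivial multiplier through an isomorphism onto the image. -/
theorem trivial_of_image {G G' : Type u} [Group G] [Finite G] [Group G'] (ι : G →* G') (hι : Function.Injective ι)
    (hG : commutator G = ⊤) (key : ∀ {Γ : Type u} [Group Γ] [Finite Γ] (σ : Γ →* G'),
      σ.ker ≤ Subgroup.center Γ → commutator Γ = ⊤ → σ.range = ι.range → σ.ker = ⊥) :
    Cfsg.HasCyclicSchurMultiplier G 1 := by
  refine ProjExt.Stem.hasCyclicSchurMultiplier_one fun Γ _ _ τ hτ => ?_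
  have hk : (ι.comp τ).ker = τ.ker := by ext x; simp [MonoidHom.mem_ker, map_eq_one_iff ι hι]
  rw [← hk]
  refine key (ι.comp τ) (hk.trans_le hτ.2.1) (stem_perfect hG hτ) ?_
  rw [MonoidHom.range_comp, MonoidHom.range_eq_top.2 hτ.1, ← MonoidHom.range_eq_map]

/-- Characteristic two: every stem extension is trivial. -/
theorem multiplier_two (hm : 3 ≤ m) (h2 : (2 : F) = 0) :
    Cfsg.HasCyclicSchurMultiplier (Cfsg.POmega F (Cfsg.quadFormMinus m F a b)) 1 := by
  have hc := Subgroup.eq_bot_of_card_eq _ ((center_cards_minus (a := a) (b := b) hm).2 (Or.inr h2))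
  have hbij : Function.Bijective (QuotientGroup.mk' (Subgroup.center Ω')) := by
    refine ⟨?_, QuotientGroup.mk'_surjective _⟩
    rw [← MonoidHom.ker_eq_bot_iff, QuotientGroup.ker_mk', hc]
  obtain ⟨ε, -⟩ : ∃ ε : Cfsg.POmega F (Cfsg.quadFormMinus m F a b) ≃* Ω', True :=
    ⟨(MulEquiv.ofBijective _ hbij).symm, trivial⟩
  refine trivial_of_image ((Cfsg.Omega F (Cfsg.quadFormMinus m F a b)).subtype.comp ε.toMonoidHom)
    ((Subgroup.subtype_injective _).comp ε.injective) ?_ fun σ hσ hP hr => ker_two hm h2 σ hσ hP ?_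
  · rw [commutator_def, ← Subgroup.map_top_of_surjective ε.symm.toMonoidHom ε.symm.surjective,
      ← Subgroup.map_commutator, ← commutator_def, omega_perfect hm]
  · rw [hr, MonoidHom.range_comp, show ε.toMonoidHom.range = ⊤ from MonoidHom.range_eq_top.2 ε.surjective, ← MonoidHom.range_eq_map,
      Subgroup.range_subtype]
    ext g; exact omega_mem_iff hm

theorem cyclic_of_embedding {D G : Type*} [Group D] [Group G] (f : D →* G) (hf : ∀ x, f x = 1 → x = 1)
    (H : Subgroup D) (C : Subgroup G) [IsCyclic C] (h : ∀ x : H, f x ∈ C) : IsCyclic H :=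
  isCyclic_of_injective ((f.comp H.subtype).codRestrict C h) ((MonoidHom.ker_eq_bot_iff _).1
    (eq_bot_iff.2 fun _ hx => Subgroup.mem_bot.2 (Subtype.ext (hf _ (congrArg Subtype.val hx)))))

section Abstract

variable {Δ : Type u} [Group Δ] [Finite Δ] (S : BMExt m a b Δ) (hPS : commutator Δ = ⊤)
  (hr : S.σ.range ≤ Eg m a b) (hz : S.zzB ≠ 1)

include hPS hr in
theorem ker_eq {x : Δ} (h1 : S.σ x = 1) : x = 1 ∨ x = S.zzB :=
  S.GB_ker ((GB_eq_top S hPS hr).ge (Subgroup.mem_top x)) h1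

include hPS hr hz in
/-- The double cover has trivial multiplier. -/
theorem cover_multiplier : Cfsg.HasCyclicSchurMultiplier Δ 1 := by
  refine ProjExt.Stem.hasCyclicSchurMultiplier_one fun Γ _ _ τ hτ => ?_
  have hP : commutator Γ = ⊤ := by
    refine top_le_iff.1 fun g _ => ?_
    obtain ⟨d, hd, e⟩ : τ g ∈ (commutator Γ).map τ := by
      rw [commutator_def, Subgroup.map_commutator, Subgroup.map_top_of_surjective τ hτ.1, ← commutator_def, hPS]
      exact Subgroup.mem_top _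
    have : d⁻¹ * g ∈ commutator Γ := hτ.2.2 (by rw [MonoidHom.mem_ker, map_mul, map_inv, e, inv_mul_cancel])
    simpa using mul_mem hd this
  let B : BMExt m a b Γ :=
    { σ := S.σ.comp τ
      central := fun x hx => mem_center_of_comm hP fun y => hτ.2.1 (by
        rw [MonoidHom.mem_ker, map_commutatorElement, commutatorElement_eq_one_iff_commute]
        exact (Subgroup.mem_center_iff.1 (S.central hx) (τ y)).symm)
      el_mem := fun p q h t => by
        obtain ⟨y, hy⟩ := S.el_mem p q h t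
        obtain ⟨x, rfl⟩ := hτ.1 y
        exact ⟨x, hy⟩
      sh_mem := fun p z => by
        obtain ⟨y, hy⟩ := S.sh_mem p z
        obtain ⟨x, rfl⟩ := hτ.1 y
        exact ⟨x, hy⟩
      three := S.three }
  have htop : B.GB = ⊤ := GB_eq_top B hP (by
    rintro _ ⟨x, rfl⟩; exact hr ⟨τ x, rfl⟩)
  rw [eq_bot_iff]
  intro x hx
  rw [MonoidHom.mem_ker] at hx
  have h1 : B.σ x = 1 := by show S.σ (τ x) = 1; rw [hx, map_one]
  rcases B.GB_ker (htop.ge (Subgroup.mem_top x)) h1 with rfl | rfl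
  · exact one_mem _
  · rw [map_zzB B S τ (fun _ => rfl)] at hx
    exact absurd hx hz

theorem iota_neg (h2 : (2 : F) ≠ 0) {g : GM m a b} (hg : ((g : GL ((Fin m ⊕ Fin m) ⊕ Fin 2) F) : Matrix ((Fin m ⊕ Fin m) ⊕ Fin 2) ((Fin m ⊕ Fin m) ⊕ Fin 2) F) = -1)
    (k : OG (W a b) (m + 1)) : k * iota h2 g = iota h2 g * k := by
  have hneg : ∀ x, Chev.Ortho.act (iota h2 g) x = -x := by
    intro x
    obtain ⟨u, rfl⟩ := (T m h2).surjective x
    have := lin_ext_sub (f := (Matrix.toLin' (iota h2 g).1.1).comp (T m h2).toLinearMap)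
      (g := -(T m h2).toLinearMap) (fun v => by
        rw [LinearMap.comp_apply, Matrix.toLin'_apply, LinearEquiv.coe_coe, LinearMap.neg_apply, LinearEquiv.coe_coe]
        show Chev.Ortho.act (iota h2 g) _ = _
        rw [iota_T, ← map_neg]
        congr 1
        funext j
        simp [castV, gact, hg, Matrix.neg_mulVec])
    exact LinearMap.congr_fun this u
  refine Chev.Ortho.ext_act fun x => ?_
  rw [Chev.Ortho.act_mul, Chev.Ortho.act_mul, hneg, hneg]
  exact Matrix.mulVec_neg _ _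

/-- The centre of `Ω` when it contains `-1`. -/
theorem center_cases (h2 : (2 : F) ≠ 0) {g₀ : GM m a b} (hg₀ : g₀ ∈ Ω')
    (hg₀' : ((g₀ : GL ((Fin m ⊕ Fin m) ⊕ Fin 2) F) : Matrix ((Fin m ⊕ Fin m) ⊕ Fin 2) ((Fin m ⊕ Fin m) ⊕ Fin 2) F) = -1) (hc2 : Nat.card (Subgroup.center Ω') = 2) :
    ∀ c : Subgroup.center Ω', (c.1.1 : GM m a b) = 1 ∨ (((c.1.1 : GM m a b) : GL ((Fin m ⊕ Fin m) ⊕ Fin 2) F) : Matrix ((Fin m ⊕ Fin m) ⊕ Fin 2) ((Fin m ⊕ Fin m) ⊕ Fin 2) F) = -1 := by
  have hg0c : (⟨g₀, hg₀⟩ : Ω') ∈ Subgroup.center Ω' := Subgroup.mem_center_iff.2 fun k =>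
    Subtype.ext (Subtype.ext (Units.ext (by
      simp only [Subgroup.coe_mul, Units.val_mul, hg₀', mul_neg, neg_mul, mul_one, one_mul])))
  have hne : (⟨⟨g₀, hg₀⟩, hg0c⟩ : Subgroup.center Ω') ≠ 1 := fun e => by
    have h' := congrArg (fun c : Subgroup.center Ω' => (((c.1.1 : GM m a b).1 : Matrix ((Fin m ⊕ Fin m) ⊕ Fin 2) ((Fin m ⊕ Fin m) ⊕ Fin 2) F)
      (Sum.inr 0) (Sum.inr 0))) e
    simp [hg₀'] at h'
    exact h2 (by linear_combination -h')
  obtain ⟨u, v, -, huniv⟩ := Nat.card_eq_two_iff.1 hc2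
  intro c
  have hc := huniv.ge (Set.mem_univ c)
  have h1 := huniv.ge (Set.mem_univ (1 : Subgroup.center Ω'))
  have hg := huniv.ge (Set.mem_univ (⟨⟨g₀, hg₀⟩, hg0c⟩ : Subgroup.center Ω'))
  simp only [Set.mem_insert_iff, Set.mem_singleton_iff] at hc h1 hg
  rcases hc with hc | hc <;> rcases h1 with h1 | h1 <;> rcases hg with hg | hg <;>
    first
    | exact Or.inl (congrArg (fun c : Subgroup.center Ω' => c.1.1) (hc.trans h1.symm))
    | exact Or.inr (by rw [hc.trans hg.symm]; exact hg₀')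
    | exact absurd (hg.trans h1.symm) hne

attribute [local irreducible] iota

/-- A lift of a central element lies in the kernel of the covering map. -/
theorem mem_cov_of_center (hm : 3 ≤ m) (h2 : (2 : F) ≠ 0) (h4 : 4 ≤ m + 1) {x : Spin.G (W a b) (m + 1)}
    {g : GM m a b} (he : (EK m a b hm h2).σ x = iota h2 g)
    (hg : g = 1 ∨ ((g : GL ((Fin m ⊕ Fin m) ⊕ Fin 2) F) : Matrix ((Fin m ⊕ Fin m) ⊕ Fin 2) ((Fin m ⊕ Fin m) ⊕ Fin 2) F) = -1) :
    x ∈ (cov h4 (good_W (a := a) (b := b) h2 (m + 1))).ker := by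
  rw [mem_cov_ker]
  refine Subgroup.mem_center_iff.2 fun k => Subtype.ext ?_
  have e : (DMult.toOm h4 (good_W (a := a) (b := b) h2 (m + 1)) x).1 = iota h2 g := by
    rw [← he]; rfl
  rw [Subgroup.coe_mul, Subgroup.coe_mul, e]
  rcases hg with rfl | hg
  · rw [map_one, mul_one, one_mul]
  · exact iota_neg h2 hg k.1

include hPS hr hz in
/-- Odd characteristic, from a double cover. -/
theorem multiplier_odd_gen (h2 : (2 : F) ≠ 0) (sp : Δ →* Spin.G (W a b) (m + 1))
    (hsp : ∀ x, (EK m a b S.three h2).σ (sp x) = iota h2 (S.σ x)) (hinj : ∀ x, sp x = 1 → x = 1) :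
    Cfsg.HasCyclicSchurMultiplier (Cfsg.POmega F (Cfsg.quadFormMinus m F a b))
      (Nat.gcd 4 (Fintype.card F ^ (m + 1) + 1)) := by
  have hm := S.three
  have hqo := odd_card_of_two h2
  obtain ⟨φ, hφ⟩ : ∃ φ : Δ →* Ω', φ = toOm S hr := ⟨_, rfl⟩
  have hφs : Function.Surjective φ := hφ ▸ toOm_surj S hr
  have hφv : ∀ x, (φ x : GM m a b) = S.σ x := fun x => by rw [hφ]; rfl
  let π : Δ →* Cfsg.POmega F (Cfsg.quadFormMinus m F a b) := (QuotientGroup.mk' _).comp φ
  have hker : ∀ x, x ∈ π.ker ↔ φ x ∈ Subgroup.center Ω' := fun x => by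
    rw [MonoidHom.mem_ker]; exact QuotientGroup.eq_one_iff _
  have hπ : Cfsg.IsStemExtension π :=
    ⟨(QuotientGroup.mk'_surjective _).comp hφs, fun x hx => mem_center_of_comm hPS fun y => S.central (by
      rw [MonoidHom.mem_ker, map_commutatorElement, commutatorElement_eq_one_iff_commute, commute_iff_eq,
        ← hφv, ← hφv]
      exact congrArg Subtype.val (Subgroup.mem_center_iff.1 ((hker x).1 hx) (φ y)).symm),
      fun x _ => hPS.ge (Subgroup.mem_top x)⟩
  have hz1 : φ S.zzB = 1 := Subtype.ext (by rw [hφv]; exact σ_zzB _)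
  let ψ : π.ker →* Subgroup.center Ω' := (φ.comp π.ker.subtype).codRestrict _ fun x => (hker _).1 x.2
  have hψs : Function.Surjective ψ := fun c => by
    obtain ⟨x, hx⟩ := hφs c.1
    exact ⟨⟨x, (hker x).2 (hx ▸ c.2)⟩, Subtype.ext hx⟩
  have hψk : Nat.card ψ.ker = 2 := by
    refine Nat.card_eq_two_iff.2 ⟨1, ⟨⟨S.zzB, (hker _).2 (by rw [hz1]; exact one_mem _)⟩,
      Subtype.ext hz1⟩, fun e => hz ?_, Set.eq_univ_of_forall fun x => ?_⟩
    · exact (congrArg (fun y : ψ.ker => ((y : π.ker) : Δ)) e).symm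
    · have h1 : φ ((x : π.ker) : Δ) = 1 := congrArg Subtype.val x.2
      have h1' : S.σ ((x : π.ker) : Δ) = 1 := by
        rw [← hφv, h1]; rfl
      rcases ker_eq S hPS hr h1' with e | e
      · exact Or.inl (Subtype.ext (Subtype.ext e))
      · exact Or.inr (Subtype.ext (Subtype.ext e))
  have hcard : Nat.card π.ker = Nat.card (Subgroup.center Ω') * 2 := by
    rw [Subgroup.card_eq_card_quotient_mul_card_subgroup ψ.ker, hψk,
      Nat.card_congr (QuotientGroup.quotientKerEquivOfSurjective ψ hψs).toEquiv]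
  have hmod : Fintype.card F ^ (m + 1) % 2 = 1 := Nat.odd_iff.1 hqo.pow
  have hneg := S0791.result (F := F) rfl hqo (m + 1) (by omega) a b hab.out
  rw [Nat.add_sub_cancel] at hneg
  have main : IsCyclic π.ker ∧ Nat.card π.ker = Nat.gcd 4 (Fintype.card F ^ (m + 1) + 1) := by
    by_cases h3 : Fintype.card F ^ (m + 1) % 4 = 3
    · have hodd : Odd (m + 1) := by
        rcases Nat.even_or_odd (m + 1) with ⟨r, hr'⟩ | h
        · exfalso
          rw [hr', ← two_mul, pow_mul, Nat.pow_mod, Nat.pow_mod (Fintype.card F)] at h3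
          obtain ⟨k, hk⟩ := hqo
          have : Fintype.card F % 4 = 1 ∨ Fintype.card F % 4 = 3 := by omega
          rcases this with e | e <;> rw [e] at h3 <;> norm_num at h3
        · exact h
      obtain ⟨g₀, hg₀, hg₀'⟩ := hneg.2 h3
      have hc2 := (center_cards_minus (a := a) (b := b) hm).1 ⟨⟨g₀, hg₀, hg₀'⟩, h2⟩
      refine ⟨?_, by rw [hcard, hc2, Nat.gcd_rec, Nat.add_mod, h3]; rfl⟩
      have hgK := good_W (a := a) (b := b) h2 (m + 1)
      have h4 : 4 ≤ m + 1 := by omega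
      obtain ⟨f, hf⟩ := (DMult.multiplier_odd (F := W a b) h4 hgK hodd).2 _ (cov h4 hgK) (cov_stem h4 hgK)
      have : IsCyclic (cov h4 hgK).ker := isCyclic_of_surjective f hf
      have hcc := center_cases h2 hg₀ hg₀' hc2
      have hcent : ∀ x : π.ker, sp (x : Δ) ∈ (cov h4 hgK).ker := fun x =>
        mem_cov_of_center hm h2 h4 (hsp (x : Δ))
          (by rw [← hφv]; exact hcc ⟨φ (x : Δ), (hker _).1 x.2⟩)
      exact cyclic_of_embedding sp hinj π.ker (cov h4 hgK).ker hcent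
    · have hc1 := (center_cards_minus (a := a) (b := b) hm).2 (Or.inl (mt hneg.1 h3))
      have h1' : Nat.card π.ker = 2 := by rw [hcard, hc1]
      refine ⟨?_, by rw [h1', Nat.gcd_rec, show (Fintype.card F ^ (m + 1) + 1) % 4 = 2 by omega]; rfl⟩
      exact isCyclic_of_prime_card (p := 2) h1'
  exact multiplier_of_cover hPS (cover_multiplier S hPS hr hz) π hπ (main.2 ▸ (zmodCyclicMulEquiv main.1).symm)

end Abstract

/-- Odd characteristic. -/
theorem multiplier_odd_q (hm : 3 ≤ m) (h2 : (2 : F) ≠ 0) :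
    Cfsg.HasCyclicSchurMultiplier (Cfsg.POmega F (Cfsg.quadFormMinus m F a b))
      (Nat.gcd 4 (Fintype.card F ^ (m + 1) + 1)) :=
  multiplier_odd_gen (B0 m a b hm h2) (perfect0 hm h2) (subExt_range _) (zzB0_ne_one hm h2) h2
    (spn m a b hm h2) (σ_spn hm h2) (fun _ h => spn_injective_ker hm h2 h)

end Cfsg.Agent.DMult.Minus
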