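import Cfsg.Agent.DMult.Kernel
import Cfsg.Agent.DMult.Minus.Group

/-!
Central extensions of the minus-type `Ω` with at least three hyperbolic planes: lifts of the long root
elements from commutators of short ones, and lifts of the short root elements from a rotation commutator.
-/

set_option autoImplicit false
set_option linter.unusedSectionVars false
set_option linter.unusedSimpArgs false

open Matrix
open scoped commutatorElement

namespace Cfsg.Agent.DMult.Minus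

open Chev.Ortho
open CurtisTitsD (ok_of_lev lev_ne_of_ok el_congr)

universe u

variable {F : Type u} [Field F] {m : ℕ} {a b : F}

local notation "I" => Fin m ⊕ Fin m

theorem isMM_inv {g : GM m a b} {τ : Equiv.Perm I} {c : I → F} {μ : W a b} {s : Bool} (h : IsMM g τ c μ s) :
    IsMM g⁻¹ τ⁻¹ (fun i => (c (τ⁻¹ i))⁻¹) (bif s then μ else star μ) s := by
  have hb : ∀ i, τ⁻¹ (bar i) = bar (τ⁻¹ i) := fun i => τ.injective (by simp [h.1])
  have hμ : star μ * μ = 1 := by rw [mul_comm, mul_star_self, h.2.2.1, map_one]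
  refine ⟨hb, fun i => ?_, ?_, fun v => ?_⟩
  · beta_reduce; rw [hb, ← mul_inv, h.2.1, inv_one]
  · cases s
    · rw [cond_false, QuadraticAlgebra.norm_star]; exact h.2.2.1
    · exact h.2.2.1
  obtain ⟨w, hw⟩ : ∃ w, w = gact g⁻¹ v := ⟨_, rfl⟩
  have e : gact g w = v := by rw [hw, ← gact_mul, mul_inv_cancel, gact_one]
  rw [← hw, ← e]
  refine ⟨fun i => ?_, ?_⟩
  · obtain ⟨j, rfl⟩ := τ.surjective i
    rw [(h.2.2.2 w).1]
    simp only [Equiv.Perm.coe_inv, Equiv.symm_apply_apply, inv_mul_cancel_left₀ (h.ne j)]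
  · rw [(h.2.2.2 w).2]
    cases s
    · simp [act, ← mul_assoc, hμ]
    · simp [act, ← mul_assoc, mul_comm μ (star μ), hμ]

theorem mm_eq {g g' : GM m a b} {τ τ' : Equiv.Perm I} {c c' : I → F} {μ μ' : W a b} {s s' : Bool}
    (h : IsMM g τ c μ s) (h' : IsMM g' τ' c' μ' s') (e1 : ∀ i, τ i = τ' i) (e2 : ∀ i, c i = c' i)
    (e3 : μ = μ') (e4 : s = s') : g = g' := by
  refine ext_coord (fun v i => ?_) fun v => ?_
  · obtain ⟨j, rfl⟩ := τ.surjective i
    rw [(h.2.2.2 v).1, e1, (h'.2.2.2 v).1, e2]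
  · rw [(h.2.2.2 v).2, (h'.2.2.2 v).2, e3, e4]

theorem third (hm : 3 ≤ m) (p q : I) : ∃ d : I, lev d ≠ lev p ∧ lev d ≠ lev q := by
  obtain ⟨i, hi⟩ := SLMult.exists_index ({levF p, levF q} : Finset (Fin m)) Finset.card_le_two
    (by rw [Fintype.card_fin]; omega)
  simp only [Finset.mem_insert, Finset.mem_singleton, not_or] at hi
  exact ⟨.inl i, levF_ne.1 hi.1, levF_ne.1 hi.2⟩

variable (m a b) in
/-- A central extension whose image contains the root elements. -/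
structure BMExt (Γ : Type u) [Group Γ] where
  /-- The projection. -/
  σ : Γ →* GM m a b
  central : σ.ker ≤ Subgroup.center Γ
  el_mem : ∀ (p q : Fin m ⊕ Fin m) (h : Ok p q) (t : F), emb (el h t) ∈ σ.range
  sh_mem : ∀ (p : Fin m ⊕ Fin m) (z : W a b), sh p z ∈ σ.range
  three : 3 ≤ m

namespace BMExt

variable [Fintype F] [hab : Fact (Aniso a b)] {Γ : Type u} [Group Γ] [Finite Γ] (B : BMExt m a b Γ)

/-- Some lift of a short root element. -/
noncomputable def L (p : Fin m ⊕ Fin m) (z : W a b) : Γ := (B.sh_mem p z).choose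

theorem σ_L (p : I) (z : W a b) : B.σ (B.L p z) = sh p z := (B.sh_mem p z).choose_spec

/-- If two elements centralise modulo the kernel then their commutator centralises. -/
theorem comm_of_two {x y L : Γ} (h1 : Commute (B.σ x) (B.σ L)) (h2 : Commute (B.σ y) (B.σ L)) :
    Commute ⁅x, y⁆ L := by
  have key : ∀ {z}, Commute (B.σ z) (B.σ L) → B.σ (L * z * L⁻¹) = B.σ z := fun h => by
    rw [map_mul, map_mul, map_inv, h.symm.eq, mul_inv_cancel_right]
  have e : L * ⁅x, y⁆ * L⁻¹ = ⁅x, y⁆ := by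
    rw [show L * ⁅x, y⁆ * L⁻¹ = ⁅L * x * L⁻¹, L * y * L⁻¹⁆ by simp only [commutatorElement_def]; group]
    exact br_indep B.central (key h1) (key h2)
  exact (mul_inv_eq_iff_eq_mul.1 e).symm

theorem conj_eq {g x : Γ} {y : GM m a b} (h : B.σ x = y) : B.σ (g * x * g⁻¹) = B.σ g * y * (B.σ g)⁻¹ := by
  rw [map_mul, map_mul, map_inv, h]

/-- Elements in the kernel of the projection are central. -/
theorem central_of {x : Γ} (h : B.σ x = 1) (y : Γ) : y * x = x * y :=
  Subgroup.mem_center_iff.1 (B.central h) y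

/-- An element `z` of norm one with `z² ≠ 1`. -/
noncomputable def z₁ (_B : BMExt m a b Γ) : W a b := (exists_kappa (a := a) (b := b)).choose

theorem z₁_norm : B.z₁.norm = 1 := (exists_kappa (a := a) (b := b)).choose_spec.1

/-- The rotation. -/
noncomputable def κ : W a b := B.z₁ * B.z₁

theorem κ_ne : B.κ - 1 ≠ 0 := sub_ne_zero.2 (exists_kappa (a := a) (b := b)).choose_spec.2

theorem κ_norm : B.κ.norm = 1 := by rw [κ, map_mul, B.z₁_norm, one_mul]

theorem κ_star : star B.κ * B.κ = 1 := by rw [mul_comm, mul_star_self, B.κ_norm, map_one]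

/-- The short Weyl element built from chosen lifts. -/
noncomputable def wL₀ (e : Fin m ⊕ Fin m) (z : W a b) : Γ :=
  B.L e z * B.L (bar e) (z.norm⁻¹ • z) * B.L e z

/-- A lift of the rotation. -/
noncomputable def rot (e : Fin m ⊕ Fin m) : Γ := B.wL₀ e B.z₁ * B.wL₀ e 1

theorem z₁_ne : B.z₁ ≠ 0 := fun e => by
  have := B.z₁_norm; rw [e, QuadraticAlgebra.norm_zero] at this; exact zero_ne_one this

theorem isMM_rot (e : I) : IsMM (B.σ (B.rot e)) 1 (fun _ => 1) B.κ false := by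
  have h1 := isMM_wsG (m := m) e B.z₁_ne
  have h2 := isMM_wsG (m := m) e (one_ne_zero : (1 : W a b) ≠ 0)
  have h := h1.mul h2
  have es : B.σ (B.rot e) = wsG e B.z₁ * wsG e 1 := by
    simp only [rot, wL₀, map_mul, B.σ_L, wsG]
  rw [es]
  convert h using 1
  · rw [Equiv.swap_mul_self]
  · funext i
    simp only [map_one, B.z₁_norm, Equiv.swap_apply_def, inv_one]
    by_cases i1 : i = e
    · subst i1; simp [bar_ne, (bar_ne _).symm]
    by_cases i2 : i = bar e
    · subst i2; simp [bar_ne, (bar_ne _).symm]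
    simp [i1, i2]
  · have hs := star_ne B.z₁_ne
    have hm : B.z₁ * star B.z₁ = 1 := by rw [mul_star_self, B.z₁_norm, map_one]
    simp only [act, cond_true, star_one, div_one, star_neg, κ]
    field_simp
    linear_combination B.z₁ * hm
  · rfl

/-- The index of the chosen rotation. -/
def i₀ (B : BMExt m a b Γ) : Fin m ⊕ Fin m := Sum.inl ⟨0, by have := B.three; omega⟩

/-- The chosen lift of the rotation. -/
noncomputable def R : Γ := B.rot B.i₀

theorem σ_rot (e : I) : B.σ (B.rot e) = B.σ B.R :=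
  mm_eq (B.isMM_rot e) (B.isMM_rot B.i₀) (fun _ => rfl) (fun _ => rfl) rfl rfl

/-- A long and a short lift commute unless the long root involves the opposite index. -/
theorem el_L_comm {p q r : I} (hqr : lev q ≠ lev r) (hq : bar q ≠ p) (hr : bar r ≠ p) {x : Γ} {t : F}
    (hx : B.σ x = emb (el (ok_of_lev hqr) t)) {L : Γ} {z : W a b} (hL : B.σ L = sh p z) : Commute x L := by
  obtain ⟨C, hC⟩ : ∃ C : W a b → Γ, ∀ u, C u = ⁅x, B.L p u⁆ := ⟨_, fun _ => rfl⟩
  have hCc : ∀ u y, y * C u = C u * y := fun u => B.central_of (by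
    rw [hC, map_commutatorElement, commutatorElement_eq_one_iff_commute, hx, B.σ_L]
    exact el_sh_comm _ hq hr t u)
  have hadd : ∀ u v, C (u + v) = C u * C v := fun u v => by
    rw [hC, br_indep B.central rfl (show B.σ (B.L p (u + v)) = B.σ (B.L p u * B.L p v) by
        rw [map_mul, B.σ_L, B.σ_L, B.σ_L, sh_mul]),
      show ⁅x, B.L p u * B.L p v⁆ = ⁅x, B.L p u⁆ * (B.L p u * ⁅x, B.L p v⁆ * (B.L p u)⁻¹) by
        simp only [commutatorElement_def]; group, ← hC, ← hC, hCc v (B.L p u), mul_inv_cancel_right]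
  have hR := B.isMM_rot B.i₀
  have hscale : ∀ u, C (B.κ * u) = C u := fun u => by
    calc C (B.κ * u) = ⁅B.R * x * B.R⁻¹, B.R * B.L p u * B.R⁻¹⁆ := by
          rw [hC]
          refine br_indep B.central ?_ ?_
          · rw [B.conj_eq hx, R, hR.conj_el _ (ok_of_lev hqr), hx]
            simp only [one_mul, Equiv.Perm.one_apply]
          · rw [B.conj_eq (B.σ_L p u), R, hR.conj_sh, B.σ_L]
            simp only [one_smul, act, cond_false, Equiv.Perm.one_apply]
      _ = B.R * C u * B.R⁻¹ := by simp only [hC, commutatorElement_def]; group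
      _ = C u := by rw [hCc u, mul_inv_cancel_right]
  have h1 : C z = 1 := by
    have h := hscale (z / (B.κ - 1))
    rw [show B.κ * (z / (B.κ - 1)) = z + z / (B.κ - 1) by
      linear_combination (mul_div_cancel₀ z B.κ_ne), hadd] at h
    exact mul_eq_right.1 h
  rw [hC] at h1
  rw [← commutatorElement_eq_one_iff_commute, br_indep B.central (A' := x) (B' := B.L p z) rfl (by rw [hL, B.σ_L])]
  exact h1

/-- The rotation commutes with every long lift. -/
theorem R_el_comm {q r : I} (hqr : lev q ≠ lev r) {x : Γ} {t : F} (hx : B.σ x = emb (el (ok_of_lev hqr) t)) :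
    Commute B.R x := by
  obtain ⟨e, he1, he2⟩ := third B.three q r
  have hk : ∀ p : I, lev p = lev e → ∀ z, Commute (B.L p z) x := fun p hp z =>
    (B.el_L_comm hqr (fun h => he1 (by rw [← hp, ← h, lev_bar])) (fun h => he2 (by rw [← hp, ← h, lev_bar]))
      hx (B.σ_L p z)).symm
  have hw : ∀ z, Commute (B.wL₀ e z) x := fun z =>
    ((hk e rfl _).mul_left (hk _ (lev_bar e) _)).mul_left (hk e rfl _)
  have hrot : Commute (B.rot e) x := (hw _).mul_left (hw _)
  obtain ⟨k, hk', hR⟩ : ∃ k, B.σ k = 1 ∧ B.R = B.rot e * k :=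
    ⟨(B.rot e)⁻¹ * B.R, by rw [map_mul, map_inv, B.σ_rot, inv_mul_cancel], (mul_inv_cancel_left _ _).symm⟩
  rw [hR]
  exact hrot.mul_left (B.central_of hk' x).symm

/-- A vector pairing to `-1` with `1`. -/
noncomputable def w₀ (_B : BMExt m a b Γ) : W a b := (exists_pair (a := a) (b := b)).choose

theorem Bp_w₀ (t : F) : Bp (t • (1 : W a b)) B.w₀ = -t := by
  rw [Bp_smul_left, show Bp (1 : W a b) B.w₀ = -1 from (exists_pair (a := a) (b := b)).choose_spec, mul_neg_one]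

/-- The lift of a long root element. -/
noncomputable def XL (p q : Fin m ⊕ Fin m) (t : F) : Γ := ⁅B.L p (t • (1 : W a b)), B.L q B.w₀⁆

theorem σ_XL {p q : I} (h : Ok p q) (t : F) : B.σ (B.XL p q t) = emb (el h t) := by
  rw [XL, map_commutatorElement, B.σ_L, B.σ_L, sh_rel (lev_ne_of_ok h), B.Bp_w₀, neg_neg]

/-- Long lifts commute when no index is opposite. -/
theorem el_el_comm {p q r s : I} (hpq : lev p ≠ lev q) (hrs : lev r ≠ lev s) (h1 : bar r ≠ p) (h2 : bar r ≠ q)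
    (h3 : bar s ≠ p) (h4 : bar s ≠ q) {x y : Γ} {t u : F} (hx : B.σ x = emb (el (ok_of_lev hrs) t))
    (hy : B.σ y = emb (el (ok_of_lev hpq) u)) : Commute x y := by
  obtain ⟨k, hk, hy'⟩ : ∃ k, B.σ k = 1 ∧ y = B.XL p q u * k :=
    ⟨(B.XL p q u)⁻¹ * y, by rw [map_mul, map_inv, B.σ_XL (ok_of_lev hpq), hy, inv_mul_cancel],
      (mul_inv_cancel_left _ _).symm⟩
  rw [hy']
  refine Commute.mul_right ?_ (B.central_of hk x)
  exact (B.comm_of_two ((B.el_L_comm hrs h1 h3 hx (B.σ_L p _)).symm.map B.σ)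
    ((B.el_L_comm hrs h2 h4 hx (B.σ_L q _)).symm.map B.σ)).symm

/-- The commutator of two short lifts determines the long lift. -/
theorem L_L_eq {p q : I} (h : lev p ≠ lev q) {L L' : Γ} {u v : W a b} (hL : B.σ L = sh p u)
    (hL' : B.σ L' = sh q v) : ⁅L, L'⁆ = B.XL p q (-Bp u v) := by
  obtain ⟨c, hcp, hcq⟩ := third B.three p q
  have hpc : lev p ≠ lev c := hcp.symm
  have opc : lev p ≠ lev (bar c) := by rwa [lev_bar]
  obtain ⟨x, hx⟩ := B.el_mem p (bar c) (ok_of_lev opc) 1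
  have n : ∀ {i j : I}, lev i ≠ lev j → bar i ≠ j := fun h e => h (by rw [← e, lev_bar])
  have key : ∀ u v : W a b, ⁅x, ⁅B.L c u, B.L q v⁆⁆ = ⁅B.L p u, B.L q v⁆ := fun u v => by
    obtain ⟨y, hy⟩ := B.el_mem p c (ok_of_lev hpc) (1 * u.norm)
    obtain ⟨K, hK⟩ : ∃ K, K = ⁅B.L c u, B.L q v⁆ := ⟨_, rfl⟩
    have hσK : B.σ K = emb (el (ok_of_lev hcq) (-Bp u v)) := by
      rw [hK, map_commutatorElement, B.σ_L, B.σ_L, sh_rel hcq]
    have hσP : B.σ ⁅B.L p u, B.L q v⁆ = emb (el (ok_of_lev h) (-Bp u v)) := by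
      rw [map_commutatorElement, B.σ_L, B.σ_L, sh_rel h]
    have e1 : B.σ (x * B.L c u * x⁻¹) = B.σ (B.L p u * y * B.L c u) := by
      have h0 := el_sh_rel (a := a) (b := b) hpc 1 u
      rw [commutatorElement_def, one_smul, mul_inv_eq_iff_eq_mul] at h0
      rw [B.conj_eq (B.σ_L c u), hx, h0]
      simp only [map_mul, B.σ_L, hy]
    have e2 : B.σ (x * B.L q v * x⁻¹) = B.σ (B.L q v) := by
      rw [B.conj_eq (B.σ_L q v), hx, (el_sh_comm (ok_of_lev opc) (n h) (by rw [bar_bar]; exact fun e => hcq (by rw [e]))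
        1 v).eq, mul_inv_cancel_right, B.σ_L]
    have cy : Commute y (B.L q v) := B.el_L_comm hpc (n h) (n hcq) hy (B.σ_L q v)
    have cK : Commute (B.L p u * y) K := by
      refine Commute.mul_left (B.el_L_comm hcq (n hcp) (n h.symm) hσK (B.σ_L p u)).symm ?_
      exact B.el_el_comm hcq hpc (n hpc) (n h) (bar_ne c) (n hcq) hy hσK
    have cP : Commute K ⁅B.L p u, B.L q v⁆ :=
      B.el_el_comm h hcq (n hcp) (n hcq) (n h.symm) (bar_ne q) hσK hσP
    calc ⁅x, ⁅B.L c u, B.L q v⁆⁆ = ⁅x * B.L c u * x⁻¹, x * B.L q v * x⁻¹⁆ * K⁻¹ := by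
          rw [hK]; simp only [commutatorElement_def]; group
      _ = ⁅B.L p u * y * B.L c u, B.L q v⁆ * K⁻¹ := by rw [br_indep B.central e1 e2]
      _ = B.L p u * y * K * (B.L p u * y)⁻¹ * (B.L p u * ⁅y, B.L q v⁆ * (B.L p u)⁻¹ *
            ⁅B.L p u, B.L q v⁆) * K⁻¹ := by
          rw [hK]; simp only [commutatorElement_def]; group
      _ = ⁅B.L p u, B.L q v⁆ := by
          rw [cK.eq, mul_inv_cancel_right, commutatorElement_eq_one_iff_commute.2 cy, mul_one, mul_inv_cancel,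
            one_mul, cP.eq, mul_inv_cancel_right]
  have e : ∀ u v u' v' : W a b, Bp u v = Bp u' v' → ⁅B.L p u, B.L q v⁆ = ⁅B.L p u', B.L q v'⁆ :=
    fun u v u' v' hB => by
      rw [← key u v, ← key u' v']
      exact br_indep B.central rfl (by
        rw [map_commutatorElement, map_commutatorElement, B.σ_L, B.σ_L, B.σ_L, B.σ_L, sh_rel hcq, sh_rel hcq, hB])
  rw [br_indep B.central (A' := B.L p u) (B' := B.L q v) (by rw [hL, B.σ_L]) (by rw [hL', B.σ_L])]
  exact e _ _ _ _ (by rw [B.Bp_w₀, neg_neg])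

theorem XL_add {p q : I} (h : lev p ≠ lev q) (t u : F) : B.XL p q (t + u) = B.XL p q t * B.XL p q u := by
  have n : ∀ {i j : I}, lev i ≠ lev j → bar i ≠ j := fun h e => h (by rw [← e, lev_bar])
  have cL : ∀ s, Commute (B.L p (t • (1 : W a b))) (B.XL p q s) := fun s =>
    (B.el_L_comm h (bar_ne p) (n h.symm) (B.σ_XL (ok_of_lev h) s) (B.σ_L p _)).symm
  have cX : Commute (B.XL p q u) (B.XL p q t) :=
    B.el_el_comm h h (bar_ne p) (n h) (n h.symm) (bar_ne q) (B.σ_XL (ok_of_lev h) u) (B.σ_XL (ok_of_lev h) t)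
  rw [XL, br_indep B.central (show B.σ (B.L p ((t + u) • (1 : W a b))) =
      B.σ (B.L p (t • (1 : W a b)) * B.L p (u • (1 : W a b))) by
        rw [map_mul, B.σ_L, B.σ_L, B.σ_L, sh_mul, add_smul]) rfl,
    show ⁅B.L p (t • (1 : W a b)) * B.L p (u • (1 : W a b)), B.L q B.w₀⁆ =
      B.L p (t • (1 : W a b)) * B.XL p q u * (B.L p (t • (1 : W a b)))⁻¹ * B.XL p q t by
        simp only [XL, commutatorElement_def]; group,
    (cL u).eq, mul_inv_cancel_right, cX.eq]

theorem XL_zero {p q : I} (h : lev p ≠ lev q) : B.XL p q (0 : F) = 1 := by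
  have := B.XL_add h 0 0; rw [add_zero] at this; exact left_eq_mul.1 this

theorem XL_inv {p q : I} (h : lev p ≠ lev q) (t : F) : (B.XL p q t)⁻¹ = B.XL p q (-t) := by
  refine inv_eq_of_mul_eq_one_right ?_
  rw [← B.XL_add h, add_neg_cancel, B.XL_zero h]

theorem XL_swap {p q : I} (h : lev p ≠ lev q) (t : F) : B.XL q p t = B.XL p q (-t) := by
  conv_lhs => rw [XL]
  rw [← commutatorElement_inv, B.L_L_eq h (B.σ_L p _) (B.σ_L q _), B.XL_inv h, Bp_comm, B.Bp_w₀, neg_neg]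

theorem XL_comm {p q r s : I} (hpq : lev p ≠ lev q) (hrs : lev r ≠ lev s) (h1 : bar q ≠ r) (h2 : bar q ≠ s)
    (h3 : bar p ≠ r) (h4 : bar p ≠ s) (t u : F) : Commute (B.XL p q t) (B.XL r s u) :=
  (B.el_el_comm hrs hpq h3 h4 h1 h2 (B.σ_XL (ok_of_lev hpq) t) (B.σ_XL (ok_of_lev hrs) u))

theorem XL_rel {p q c : I} (hpq : lev p ≠ lev q) (hpc : lev p ≠ lev c) (hcq : lev c ≠ lev q) (t u : F) :
    ⁅B.XL p (bar c) t, B.XL c q u⁆ = B.XL p q (t * u) := by
  have n : ∀ {i j : I}, lev i ≠ lev j → bar i ≠ j := fun h e => h (by rw [← e, lev_bar])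
  have opc : lev p ≠ lev (bar c) := by rwa [lev_bar]
  obtain ⟨x, hx⟩ : ∃ x, x = B.XL p (bar c) t := ⟨_, rfl⟩
  have hσx : B.σ x = emb (el (ok_of_lev opc) t) := by rw [hx, B.σ_XL (ok_of_lev opc)]
  obtain ⟨y, hy⟩ := B.el_mem p c (ok_of_lev hpc) (t * (u • (1 : W a b)).norm)
  obtain ⟨P, hP⟩ : ∃ P, B.σ P = sh p (t • u • (1 : W a b)) := ⟨_, B.σ_L _ _⟩
  set Lu := B.L c (u • (1 : W a b)) with hLu
  set Lv := B.L q B.w₀ with hLv
  have e1 : B.σ (x * Lu * x⁻¹) = B.σ (P * y * Lu) := by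
    have h0 := el_sh_rel (a := a) (b := b) hpc t (u • (1 : W a b))
    rw [commutatorElement_def, mul_inv_eq_iff_eq_mul] at h0
    rw [B.conj_eq (B.σ_L c _), hσx, h0]
    simp only [map_mul, hLu, B.σ_L, hy, hP]
  have e2 : B.σ (x * Lv * x⁻¹) = B.σ Lv := by
    rw [B.conj_eq (B.σ_L q _), hσx, (el_sh_comm (ok_of_lev opc) (n hpq)
      (by rw [bar_bar]; exact fun e => hcq (by rw [e])) t B.w₀).eq, mul_inv_cancel_right, hLv, B.σ_L]
  have cy : Commute y Lv := B.el_L_comm hpc (n hpq) (n hcq) hy (B.σ_L q _)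
  have hσK := B.σ_XL (ok_of_lev hcq) u
  have cK : Commute (P * y) (B.XL c q u) := by
    refine Commute.mul_left (B.el_L_comm hcq (n hpc.symm) (n hpq.symm) hσK hP).symm ?_
    exact B.el_el_comm hcq hpc (n hpc) (n hpq) (bar_ne c) (n hcq) hy hσK
  have hX : ⁅P, Lv⁆ = B.XL p q (t * u) := by
    rw [B.L_L_eq hpq hP (B.σ_L q _), Bp_smul_left, B.Bp_w₀]; congr 1; ring
  have cP : Commute (B.XL c q u) (B.XL p q (t * u)) :=
    B.el_el_comm hpq hcq (n hpc.symm) (n hcq) (n hpq.symm) (bar_ne q) hσK (B.σ_XL (ok_of_lev hpq) _)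
  rw [← hx]
  calc ⁅x, B.XL c q u⁆ = ⁅x * Lu * x⁻¹, x * Lv * x⁻¹⁆ * (B.XL c q u)⁻¹ := by
        simp only [XL, ← hLu, ← hLv, commutatorElement_def]; group
    _ = ⁅P * y * Lu, Lv⁆ * (B.XL c q u)⁻¹ := by rw [br_indep B.central e1 e2]
    _ = P * y * B.XL c q u * (P * y)⁻¹ * (P * ⁅y, Lv⁆ * P⁻¹ * ⁅P, Lv⁆) * (B.XL c q u)⁻¹ := by
        simp only [XL, ← hLu, ← hLv, commutatorElement_def]; group
    _ = B.XL p q (t * u) := by
        rw [cK.eq, mul_inv_cancel_right, commutatorElement_eq_one_iff_commute.2 cy, mul_one, mul_inv_cancel,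
          one_mul, hX, cP.eq, mul_inv_cancel_right]

/-- The preimage of the split subgroup. -/
def DS : Subgroup Γ := (emb (F := F) (m := m) (a := a) (b := b)).range.comap B.σ

/-- The projection of the preimage of the split subgroup. -/
noncomputable def σD : B.DS →* OG F m :=
  (MonoidHom.ofInjective (emb_injective (F := F) (m := m) (a := a) (b := b))).symm.toMonoidHom.comp
    ((B.σ.comp B.DS.subtype).codRestrict _ fun x => x.2)

theorem emb_σD (x : B.DS) : emb (B.σD x) = B.σ x := by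
  have := MonoidHom.apply_ofInjective_symm (emb_injective (F := F) (m := m) (a := a) (b := b))
    ⟨B.σ (x : Γ), x.2⟩
  exact this

theorem XL_mem_DS {p q : I} (h : lev p ≠ lev q) (t : F) : B.XL p q t ∈ B.DS :=
  ⟨_, (B.σ_XL (ok_of_lev h) t).symm⟩

/-- The extension of the split subgroup. -/
noncomputable def D : Ext F m B.DS where
  σ := B.σD
  central := fun x hx => Subgroup.mem_center_iff.2 fun y => Subtype.ext (Subgroup.mem_center_iff.1
    (B.central (show B.σ (x : Γ) = 1 by rw [← B.emb_σD, show B.σD x = 1 from hx, map_one])) (y : Γ))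
  el_mem p q h t := by
    obtain ⟨g, hg⟩ := B.el_mem p q h t
    refine ⟨⟨g, ⟨_, hg.symm⟩⟩, emb_injective (a := a) (b := b) ?_⟩
    rw [B.emb_σD]; exact hg
  three := B.three
  good := Or.inr ⟨fun p q t => if h : lev p ≠ lev q then ⟨B.XL p q t, B.XL_mem_DS h t⟩ else 1,
    fun p q h t => emb_injective (a := a) (b := b) (by
      simp only [dif_pos (lev_ne_of_ok h)]
      rw [B.emb_σD]
      exact B.σ_XL h t),
    fun p q h t u => Subtype.ext (by simp only [dif_pos h]; exact B.XL_add h t u),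
    fun p q r s hpq hrs h1 h2 h3 h4 t u => Subtype.ext (by
      simp only [dif_pos hpq, dif_pos hrs]
      exact (B.XL_comm hpq hrs h1 h2 h3 h4 t u).eq),
    fun p q c hpq hpc hcq t u => Subtype.ext (by
      simp only [dif_pos hpq, dif_pos hcq, dif_pos (show lev p ≠ lev (bar c) by rwa [lev_bar])]
      exact B.XL_rel hpq hpc hcq t u)⟩

theorem XL_eq_X {p q : I} (h : lev p ≠ lev q) (t : F) : ((DMult.X B.D p q t : B.DS) : Γ) = B.XL p q t := by
  obtain ⟨c, hcp, hcq⟩ := third B.three p q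
  have opc : lev p ≠ lev (bar c) := by rw [lev_bar]; exact hcp.symm
  rw [← mul_one t, ← B.XL_rel h hcp.symm hcq]
  rw [mul_one, DMult.X_eq_br B.D h hcp hcq, ← Subgroup.coe_subtype, map_commutatorElement]
  refine br_indep B.central ?_ ?_
  · rw [Subgroup.coe_subtype, ← B.emb_σD, show B.σD _ = _ from DMult.σ_lft B.D (ok_of_lev opc) t,
      B.σ_XL (ok_of_lev opc)]
  · rw [Subgroup.coe_subtype, ← B.emb_σD, show B.σD _ = _ from DMult.σ_lft B.D (ok_of_lev hcq) 1,
      B.σ_XL (ok_of_lev hcq)]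

/-- The long torus element. -/
noncomputable def hL (p q : Fin m ⊕ Fin m) (t : F) : Γ := (DMult.h B.D p q t : B.DS)

/-- The long Weyl element. -/
noncomputable def wL (p q : Fin m ⊕ Fin m) (t : F) : Γ := (DMult.w B.D p q t : B.DS)

theorem wL_eq {p q : I} (h : lev p ≠ lev q) (t : F) :
    B.wL p q t = B.XL p q t * B.XL (bar p) (bar q) t⁻¹ * B.XL p q t := by
  rw [wL, DMult.w, Subgroup.coe_mul, Subgroup.coe_mul, B.XL_eq_X h, B.XL_eq_X (by rwa [lev_bar, lev_bar])]

theorem hL_eq (p q : I) (t : F) : B.hL p q t = B.wL p q t * B.wL p q (-1) := rfl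

theorem isMM_hL {p q : I} (h : lev p ≠ lev q) {t : F} (ht : t ≠ 0) :
    IsMM (B.σ (B.hL p q t)) 1
      (fun i => if i = p ∨ i = q then t else if i = bar p ∨ i = bar q then t⁻¹ else 1) 1 false := by
  rw [hL, ← B.emb_σD]
  exact IsMM.of_isMonO (isMonO_h B.D h ht)

theorem isMM_wL {p q : I} (h : lev p ≠ lev q) {t : F} (ht : t ≠ 0) :
    IsMM (B.σ (B.wL p q t)) (wPerm p q)
      (fun i => if i = bar q then t else if i = p then -t⁻¹ else if i = bar p then -t else
        if i = q then t⁻¹ else 1) 1 false := by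
  rw [wL, ← B.emb_σD]
  exact IsMM.of_isMonO (isMonO_w B.D h ht)

/-- Monomial elements permute the lifts of the long root elements. -/
theorem XL_conj {g : Γ} {τ : Equiv.Perm I} {c : I → F} {μ : W a b} {s : Bool} (h : IsMM (B.σ g) τ c μ s)
    {p q : I} (hpq : lev p ≠ lev q) (t : F) :
    g * B.XL p q t * g⁻¹ = B.XL (τ p) (τ q) (c p * c q * t) := by
  obtain ⟨d, hdp, hdq⟩ := third B.three p q
  have n1 : lev p ≠ lev (bar d) := by rw [lev_bar]; exact hdp.symm
  have n1' : lev (τ p) ≠ lev (bar (τ d)) := by rw [lev_bar]; exact h.ok hdp.symm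
  conv_lhs => rw [← mul_one t, ← B.XL_rel hpq hdp.symm hdq]
  rw [show c p * c q * t = c p * c (bar d) * t * (c d * c q) by
      linear_combination -(c p * c q * t) * h.2.1 d,
    ← B.XL_rel (h.ok hpq) (h.ok hdp.symm) (h.ok hdq),
    show g * ⁅B.XL p (bar d) t, B.XL d q 1⁆ * g⁻¹ =
      ⁅g * B.XL p (bar d) t * g⁻¹, g * B.XL d q 1 * g⁻¹⁆ by simp only [commutatorElement_def]; group]
  have o1 : Ok (τ p) (τ (bar d)) := ok_of_lev (h.ok n1)
  refine br_indep B.central ?_ ?_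
  · rw [B.conj_eq (B.σ_XL (ok_of_lev n1) t), h.conj_el (ok_of_lev n1) o1,
      B.σ_XL (ok_of_lev n1'), el_congr o1 (ok_of_lev n1') rfl (h.1 d)]
  · rw [B.conj_eq (B.σ_XL (ok_of_lev hdq) 1), h.conj_el (ok_of_lev hdq) (ok_of_lev (h.ok hdq)),
      B.σ_XL (ok_of_lev (h.ok hdq)), mul_one]

theorem wL_pair {p q : I} (h : lev p ≠ lev q) {t χ : F} (ht : t ≠ 0) (hχ : χ ≠ 0) :
    B.wL p q (χ * t) * B.wL p q (χ * -1) = B.hL p q t := by
  obtain ⟨s, hs, sp, sq⟩ := exists_sec_root h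
  have hne := levF_ne.2 h
  refine congrArg Subtype.val (a₁ := DMult.w B.D p q (χ * t) * DMult.w B.D p q (χ * -1)) ?_
  rw [w_eq_f B.D hs hne sp sq, w_eq_f B.D hs hne sp sq, h_eq_f B.D hs hne sp sq, ← map_mul, wS_pair hne ht hχ]

theorem wL_conj {g : Γ} {τ : Equiv.Perm I} {c : I → F} {μ : W a b} {s : Bool} (hg : IsMM (B.σ g) τ c μ s)
    {p q : I} (hpq : lev p ≠ lev q) (t : F) : g * B.wL p q t * g⁻¹ = B.wL (τ p) (τ q) (c p * c q * t) := by
  have h' : lev (bar p) ≠ lev (bar q) := by rwa [lev_bar, lev_bar]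
  have e : c (bar p) * c (bar q) * t⁻¹ = (c p * c q * t)⁻¹ := by
    rw [mul_inv, mul_inv, eq_inv_of_mul_eq_one_right (hg.2.1 p), eq_inv_of_mul_eq_one_right (hg.2.1 q)]
  rw [B.wL_eq hpq, show g * (B.XL p q t * B.XL (bar p) (bar q) t⁻¹ * B.XL p q t) * g⁻¹ =
      g * B.XL p q t * g⁻¹ * (g * B.XL (bar p) (bar q) t⁻¹ * g⁻¹) * (g * B.XL p q t * g⁻¹) by group,
    B.XL_conj hg hpq, B.XL_conj hg h', e, hg.1, hg.1, B.wL_eq (hg.ok hpq)]

theorem hL_conj {g : Γ} {τ : Equiv.Perm I} {c : I → F} {μ : W a b} {s : Bool} (hg : IsMM (B.σ g) τ c μ s)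
    {p q : I} (hpq : lev p ≠ lev q) {t : F} (ht : t ≠ 0) : g * B.hL p q t * g⁻¹ = B.hL (τ p) (τ q) t := by
  rw [hL_eq, show g * (B.wL p q t * B.wL p q (-1)) * g⁻¹ =
      g * B.wL p q t * g⁻¹ * (g * B.wL p q (-1) * g⁻¹) by group,
    B.wL_conj hg hpq, B.wL_conj hg hpq, B.wL_pair (hg.ok hpq) ht (mul_ne_zero (hg.ne p) (hg.ne q))]

/-- The lift of a short root element. -/
noncomputable def Y (p : Fin m ⊕ Fin m) (z : W a b) : Γ := ⁅B.R, B.L p (z / (B.κ - 1))⁆

theorem isMM_R : IsMM (B.σ B.R) 1 (fun _ => 1) B.κ false := B.isMM_rot _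

theorem σ_R_conj_L (p : I) {L : Γ} {w : W a b} (hL : B.σ L = sh p w) :
    B.σ (B.R * L * B.R⁻¹) = sh p (B.κ * w) := by
  rw [B.conj_eq hL, B.isMM_R.conj_sh]
  simp only [one_smul, act, cond_false, Equiv.Perm.one_apply]

theorem Y_eq {p : I} {R' L : Γ} {w : W a b} (hR : B.σ R' = B.σ B.R) (hL : B.σ L = sh p w) :
    ⁅R', L⁆ = B.Y p ((B.κ - 1) * w) := by
  rw [Y, mul_div_cancel_left₀ w B.κ_ne]
  exact br_indep B.central hR (by rw [hL, B.σ_L])

theorem σ_Y (p : I) (z : W a b) : B.σ (B.Y p z) = sh p z := by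
  rw [Y, map_commutatorElement, B.σ_L, commutatorElement_def, B.isMM_R.conj_sh, sh_inv, Equiv.Perm.one_apply,
    sh_mul]
  congr 1
  simp only [one_smul, act, cond_false, Equiv.Perm.one_apply]
  rw [← sub_eq_add_neg]
  linear_combination mul_div_cancel₀ z B.κ_ne

theorem Y_zero (p : I) : B.Y p (0 : W a b) = 1 := by
  have := B.Y_eq (R' := B.R) (L := 1) (p := p) (w := 0) rfl (by rw [map_one, sh_zero])
  rw [mul_zero, commutatorElement_one_right] at this
  exact this.symm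

/-- Two lifts of short root elements of one index commute. -/
theorem L_comm_self {p : I} {L L' : Γ} {u v : W a b} (hL : B.σ L = sh p u) (hL' : B.σ L' = sh p v) :
    Commute L L' := by
  obtain ⟨q, hq, -⟩ := third B.three p p
  have hpq : lev p ≠ lev q := hq.symm
  have n : ∀ {i j : I}, lev i ≠ lev j → bar i ≠ j := fun h e => h (by rw [← e, lev_bar])
  have opq : lev p ≠ lev (bar q) := by rwa [lev_bar]
  obtain ⟨x, hx⟩ := B.el_mem p (bar q) (ok_of_lev opq) 1
  obtain ⟨yu, hyu⟩ := B.el_mem p q (ok_of_lev hpq) (1 * u.norm)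
  obtain ⟨yv, hyv⟩ := B.el_mem p q (ok_of_lev hpq) (1 * v.norm)
  set Au := B.L q u
  set Av := B.L q v
  set Pu := B.L p u with hPu
  set Pv := B.L p v with hPv
  have hE : ∀ y : Γ, y * ⁅Au, Av⁆ = ⁅Au, Av⁆ * y := B.central_of (by
    rw [map_commutatorElement, B.σ_L, B.σ_L, commutatorElement_eq_one_iff_commute, commute_iff_eq,
      sh_mul, sh_mul, add_comm])
  have hE' : ∀ y : Γ, y * ⁅Pu, Pv⁆ = ⁅Pu, Pv⁆ * y := B.central_of (by
    rw [map_commutatorElement, B.σ_L, B.σ_L, commutatorElement_eq_one_iff_commute, commute_iff_eq,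
      sh_mul, sh_mul, add_comm])
  have h0 : ∀ (w : W a b) (y : Γ), B.σ y = emb (el (ok_of_lev hpq) (1 * w.norm)) →
      B.σ (x * B.L q w * x⁻¹) = B.σ (y * (B.L p w * B.L q w)) := fun w y hy => by
    have h0 := el_sh_rel (a := a) (b := b) hpq 1 w
    rw [commutatorElement_def, one_smul, mul_inv_eq_iff_eq_mul] at h0
    rw [B.conj_eq (B.σ_L q w), hx, h0, map_mul, map_mul, B.σ_L, B.σ_L, hy,
      (el_sh_comm (ok_of_lev hpq) (bar_ne p) (n hpq.symm) _ w).symm.eq, mul_assoc]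
  have cy : ∀ {y : Γ} {t : F}, B.σ y = emb (el (ok_of_lev hpq) t) → ∀ w, Commute y (B.L p w * B.L q w) :=
    fun hy w => (B.el_L_comm hpq (bar_ne p) (n hpq.symm) hy (B.σ_L p w)).mul_right
      (B.el_L_comm hpq (n hpq) (bar_ne q) hy (B.σ_L q w))
  have cyy : Commute yu yv := B.el_el_comm hpq hpq (bar_ne p) (n hpq) (n hpq.symm) (bar_ne q) hyu hyv
  have cX : ∀ t, Commute (B.XL q p t) Pu ∧ Commute (B.XL q p t) Pv := fun t =>
    ⟨B.el_L_comm hpq.symm (n hpq.symm) (bar_ne p) (B.σ_XL (ok_of_lev hpq.symm) t) (B.σ_L p u),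
      B.el_L_comm hpq.symm (n hpq.symm) (bar_ne p) (B.σ_XL (ok_of_lev hpq.symm) t) (B.σ_L p v)⟩
  have e1 : ⁅Au, Av⁆ = ⁅Pu * Au, Pv * Av⁆ := by
    calc ⁅Au, Av⁆ = x * ⁅Au, Av⁆ * x⁻¹ := by rw [hE x, mul_inv_cancel_right]
      _ = ⁅x * Au * x⁻¹, x * Av * x⁻¹⁆ := by simp only [commutatorElement_def]; group
      _ = ⁅yu * (Pu * Au), yv * (Pv * Av)⁆ := br_indep B.central (h0 u yu hyu) (h0 v yv hyv)
      _ = yu * ⁅Pu * Au, yv * (Pv * Av)⁆ * yu⁻¹ * ⁅yu, yv * (Pv * Av)⁆ := by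
        simp only [commutatorElement_def]; group
      _ = yu * (⁅Pu * Au, yv⁆ * (yv * ⁅Pu * Au, Pv * Av⁆ * yv⁻¹)) * yu⁻¹ := by
        rw [commutatorElement_eq_one_iff_commute.2 (cyy.mul_right (cy hyu v)), mul_one,
          show ⁅Pu * Au, yv * (Pv * Av)⁆ = ⁅Pu * Au, yv⁆ * (yv * ⁅Pu * Au, Pv * Av⁆ * yv⁻¹) by
            simp only [commutatorElement_def]; group]
      _ = ⁅Pu * Au, Pv * Av⁆ := by
        have c1 : Commute yv ⁅Pu * Au, Pv * Av⁆ := by
          rw [commutatorElement_def]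
          exact (((cy hyv u).mul_right (cy hyv v)).mul_right (cy hyv u).inv_right).mul_right (cy hyv v).inv_right
        have c2 : Commute yu ⁅Pu * Au, Pv * Av⁆ := by
          rw [commutatorElement_def]
          exact (((cy hyu u).mul_right (cy hyu v)).mul_right (cy hyu u).inv_right).mul_right (cy hyu v).inv_right
        rw [commutatorElement_eq_one_iff_commute.2 (cy hyv u).symm, one_mul, c1.eq, mul_inv_cancel_right,
          c2.eq, mul_inv_cancel_right]
  have e2 : ⁅Pu * Au, Pv * Av⁆ =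
      Pu * (⁅Au, Pv⁆ * (Pv * ⁅Au, Av⁆ * Pv⁻¹)) * Pu⁻¹ * (⁅Pu, Pv⁆ * (Pv * ⁅Pu, Av⁆ * Pv⁻¹)) := by
    simp only [commutatorElement_def]; group
  have k1 : ⁅Au, Pv⁆ = B.XL q p (-Bp u v) := B.L_L_eq hpq.symm (B.σ_L q u) (B.σ_L p v)
  have k2 : ⁅Pu, Av⁆ = (B.XL q p (-Bp u v))⁻¹ := by
    rw [B.L_L_eq hpq (B.σ_L p u) (B.σ_L q v), B.XL_swap hpq, B.XL_inv hpq, neg_neg]
  rw [e2, hE Pv, mul_inv_cancel_right, k1, k2] at e1
  have cE : Commute Pu (B.XL q p (-Bp u v) * ⁅Au, Av⁆) := ((cX _).1.symm).mul_right (hE Pu)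
  rw [cE.eq, mul_inv_cancel_right, ((cX _).2.symm.inv_right).eq, mul_inv_cancel_right] at e1
  set X0 := B.XL q p (-Bp u v)
  have e3 : ⁅Pu, Pv⁆ = 1 := by
    refine mul_left_cancel (a := ⁅Au, Av⁆) ?_
    rw [mul_one]
    conv_rhs => rw [e1]
    rw [hE X0, mul_assoc, ← mul_assoc X0, hE' X0, mul_assoc ⁅Pu, Pv⁆, mul_inv_cancel, mul_one]
  rw [← commutatorElement_eq_one_iff_commute, br_indep B.central (A' := Pu) (B' := Pv)
    (by rw [hL, hPu, B.σ_L]) (by rw [hL', hPv, B.σ_L])]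
  exact e3

theorem Y_add (p : I) (z w : W a b) : B.Y p (z + w) = B.Y p z * B.Y p w := by
  have h := B.Y_eq (R' := B.R) (p := p) (L := B.L p (z / (B.κ - 1)) * B.L p (w / (B.κ - 1)))
    (w := (z + w) / (B.κ - 1)) rfl (by rw [map_mul, B.σ_L, B.σ_L, sh_mul, add_div])
  rw [mul_div_cancel₀ _ B.κ_ne] at h
  rw [← h, show ⁅B.R, B.L p (z / (B.κ - 1)) * B.L p (w / (B.κ - 1))⁆ = B.Y p z *
      (B.L p (z / (B.κ - 1)) * B.Y p w * (B.L p (z / (B.κ - 1)))⁻¹) by
    simp only [Y, commutatorElement_def]; group,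
    (B.L_comm_self (B.σ_L p _) (B.σ_Y p w)).eq, mul_inv_cancel_right]

theorem Y_inv (p : I) (z : W a b) : (B.Y p z)⁻¹ = B.Y p (-z) :=
  inv_eq_of_mul_eq_one_right (by rw [← B.Y_add, add_neg_cancel, B.Y_zero])

theorem R_Y (p : I) (z : W a b) : B.R * B.Y p z * B.R⁻¹ = B.Y p (B.κ * z) := by
  rw [Y, show B.R * ⁅B.R, B.L p (z / (B.κ - 1))⁆ * B.R⁻¹ =
    ⁅B.R, B.R * B.L p (z / (B.κ - 1)) * B.R⁻¹⁆ by simp only [commutatorElement_def]; group,
    B.Y_eq rfl (B.σ_R_conj_L p (B.σ_L p _)), Y]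
  congr 2
  rw [mul_div_cancel_left₀ _ B.κ_ne, mul_div_assoc]

theorem Rinv_eq {p : I} {R' L : Γ} {w : W a b} (hR : B.σ R' = (B.σ B.R)⁻¹) (hL : B.σ L = sh p w) :
    ⁅R', L⁆ = B.Y p ((star B.κ - 1) * w) := by
  rw [br_indep B.central (A' := B.R⁻¹) (B' := L) (by rw [hR, map_inv]) rfl,
    show ⁅B.R⁻¹, L⁆ = B.R⁻¹ * ⁅B.R, L⁆⁻¹ * B.R by simp only [commutatorElement_def]; group,
    B.Y_eq rfl hL, B.Y_inv]
  have h1 := B.R_Y p ((star B.κ - 1) * w)
  rw [show B.κ * ((star B.κ - 1) * w) = -((B.κ - 1) * w) by linear_combination w * B.κ_star] at h1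
  rw [← h1]; group

/-- Monomial elements permute the lifts of the short root elements. -/
theorem Y_conj {g : Γ} {τ : Equiv.Perm I} {c : I → F} {μ : W a b} {s : Bool} (h : IsMM (B.σ g) τ c μ s)
    (p : I) (z : W a b) : g * B.Y p z * g⁻¹ = B.Y (τ p) (c p • act μ s z) := by
  have hk : B.κ - 1 ≠ 0 := B.κ_ne
  rw [Y, show g * ⁅B.R, B.L p (z / (B.κ - 1))⁆ * g⁻¹ =
    ⁅g * B.R * g⁻¹, g * B.L p (z / (B.κ - 1)) * g⁻¹⁆ by simp only [commutatorElement_def]; group]
  have hL : B.σ (g * B.L p (z / (B.κ - 1)) * g⁻¹) = sh (τ p) (c p • act μ s (z / (B.κ - 1))) := by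
    rw [B.conj_eq (B.σ_L p _), h.conj_sh]
  cases s
  · have e : B.σ (g * B.R * g⁻¹) = B.σ B.R := by
      rw [map_mul, map_mul, map_inv, mul_inv_eq_iff_eq_mul]
      exact mm_eq (h.mul B.isMM_R) (B.isMM_R.mul h) (fun i => by simp) (fun i => by simp)
        (by simp [act, mul_comm]) rfl
    rw [B.Y_eq e hL]
    congr 1
    simp only [act, cond_false, mul_smul_comm]
    congr 1
    linear_combination μ * mul_div_cancel₀ z hk
  · have e : B.σ (g * B.R * g⁻¹) = (B.σ B.R)⁻¹ := by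
      rw [map_mul, map_mul, map_inv, mul_inv_eq_iff_eq_mul]
      exact mm_eq (h.mul B.isMM_R) ((isMM_inv B.isMM_R).mul h) (fun i => by simp) (fun i => by simp)
        (by simp [act, mul_comm]) rfl
    rw [B.Rinv_eq e hL]
    congr 1
    simp only [act, cond_true, mul_smul_comm]
    congr 1
    have hs : star B.κ - 1 ≠ 0 := fun e' => hk (by
      rw [← star_star (B.κ - 1), star_sub, star_one, e', star_zero])
    have e2 : star (z / (B.κ - 1)) * (star B.κ - 1) = star z := by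
      have := congrArg star (div_mul_cancel₀ z hk)
      rwa [star_mul', star_sub, star_one] at this
    linear_combination μ * e2

theorem XL_Y_comm {p q r : I} (hqr : lev q ≠ lev r) (hq : bar q ≠ p) (hr : bar r ≠ p) (t : F) (z : W a b) :
    Commute (B.XL q r t) (B.Y p z) :=
  B.el_L_comm hqr hq hr (B.σ_XL (ok_of_lev hqr) t) (B.σ_Y p z)

/-- The commutator of two short lifts. -/
theorem Y_rel {p q : I} (h : lev p ≠ lev q) (z w : W a b) :
    ⁅B.Y p z, B.Y q w⁆ = B.XL p q (-Bp z w) :=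
  B.L_L_eq h (B.σ_Y p z) (B.σ_Y q w)

/-- The commutator of a long and a short lift. -/
theorem XL_Y_rel {p q : I} (h : lev p ≠ lev q) (t : F) (z : W a b) :
    ⁅B.XL p (bar q) t, B.Y q z⁆ = B.Y p (t • z) * B.XL p q (t * z.norm) := by
  have n : ∀ {i j : I}, lev i ≠ lev j → bar i ≠ j := fun h e => h (by rw [← e, lev_bar])
  have hq' : lev p ≠ lev (bar q) := by rwa [lev_bar]
  set x := B.XL p (bar q) t with hx
  obtain ⟨K, hK⟩ : ∃ K : W a b → Γ, ∀ v,
      K v = ⁅x, B.Y q v⁆ * (B.Y p (t • v) * B.XL p q (t * v.norm))⁻¹ := ⟨_, fun _ => rfl⟩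
  have hKc : ∀ v y, y * K v = K v * y := fun v => B.central_of (by
    rw [hK, map_mul, map_inv, map_mul, map_commutatorElement, B.σ_Y, B.σ_Y, hx,
      B.σ_XL (ok_of_lev hq'), B.σ_XL (ok_of_lev h), el_sh_rel h, mul_inv_cancel])
  have hexp : ∀ v, ⁅x, B.Y q v⁆ = K v * (B.Y p (t • v) * B.XL p q (t * v.norm)) :=
    fun v => by rw [hK, inv_mul_cancel_right]
  have cXp : ∀ s v, Commute (B.XL p q s) (B.Y p v) := fun s v => B.XL_Y_comm h (bar_ne p) (n h.symm) s v
  have cXq : ∀ s v, Commute (B.XL p q s) (B.Y q v) := fun s v => B.XL_Y_comm h (n h) (bar_ne q) s v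
  have hadd : ∀ v w, K (v + w) = K v * K w := fun v w => by
    have e : ⁅x, B.Y q (v + w)⁆ = K v * K w * (B.Y p (t • (v + w)) * B.XL p q (t * (v + w).norm)) := by
      have e3 : B.Y q v * B.Y p (t • w) * (B.Y q v)⁻¹ = B.XL p q (t * Bp v w) * B.Y p (t • w) := by
        rw [show B.Y q v * B.Y p (t • w) * (B.Y q v)⁻¹ = ⁅B.Y q v, B.Y p (t • w)⁆ * B.Y p (t • w) by
          simp only [commutatorElement_def]; group, B.Y_rel h.symm, B.XL_swap h, Bp_smul_right, neg_neg]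
      calc ⁅x, B.Y q (v + w)⁆ = ⁅x, B.Y q v⁆ * (B.Y q v * ⁅x, B.Y q w⁆ * (B.Y q v)⁻¹) := by
            rw [B.Y_add]; simp only [commutatorElement_def]; group
        _ = K v * (B.Y p (t • v) * B.XL p q (t * v.norm)) *
            (K w * ((B.Y q v * B.Y p (t • w) * (B.Y q v)⁻¹) * B.XL p q (t * w.norm))) := by
            rw [hexp, hexp, show B.Y q v * (K w * (B.Y p (t • w) * B.XL p q (t * w.norm))) * (B.Y q v)⁻¹ =
              K w * (B.Y q v * B.Y p (t • w) * B.XL p q (t * w.norm) * (B.Y q v)⁻¹) by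
                rw [← mul_assoc (B.Y q v), hKc w]; simp only [mul_assoc],
              mul_assoc (B.Y q v * B.Y p (t • w)), (cXq _ v).inv_right.eq, ← mul_assoc, ← mul_assoc]
            simp only [mul_assoc]
        _ = K v * K w * (B.Y p (t • v) * B.XL p q (t * v.norm) *
            (B.XL p q (t * Bp v w) * B.Y p (t • w) * B.XL p q (t * w.norm))) := by
            rw [e3, mul_assoc (K v), ← mul_assoc (_ * _) (K w), hKc w (_ * _)]
            simp only [mul_assoc]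
        _ = _ := by
            congr 1
            rw [N_add, show t * (v.norm + w.norm + Bp v w) = t * v.norm + t * Bp v w + t * w.norm by ring,
              B.XL_add h, B.XL_add h, smul_add, B.Y_add, (cXp (t * Bp v w) (t • w)).eq,
              mul_assoc (B.Y p (t • v)), ← mul_assoc (B.XL p q (t * v.norm)),
              ← mul_assoc (B.XL p q (t * v.norm)), (cXp (t * v.norm) (t • w)).eq]
            simp only [mul_assoc]
    rw [hK (v + w), e, mul_inv_cancel_right]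
  have hscale : ∀ v, K (B.κ * v) = K v := fun v => by
    have hR := B.isMM_R
    calc K (B.κ * v) = ⁅B.R * x * B.R⁻¹, B.R * B.Y q v * B.R⁻¹⁆ *
          (B.R * B.Y p (t • v) * B.R⁻¹ * (B.R * B.XL p q (t * v.norm) * B.R⁻¹))⁻¹ := by
          rw [B.R_Y, B.R_Y, (B.R_el_comm hq' (B.σ_XL (ok_of_lev hq') t)).eq, mul_inv_cancel_right,
            (B.R_el_comm h (B.σ_XL (ok_of_lev h) _)).eq, mul_inv_cancel_right, hK, map_mul, B.κ_norm, one_mul,
            mul_smul_comm]
      _ = B.R * K v * B.R⁻¹ := by simp only [hK, commutatorElement_def]; group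
      _ = K v := by rw [hKc v, mul_inv_cancel_right]
  have h1 : K z = 1 := by
    have h := hscale (z / (B.κ - 1))
    rw [show B.κ * (z / (B.κ - 1)) = z + z / (B.κ - 1) by
      linear_combination (mul_div_cancel₀ z B.κ_ne), hadd] at h
    exact mul_eq_right.1 h
  rw [hexp z, h1, one_mul]

end BMExt

end Cfsg.Agent.DMult.Minus
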