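import Cfsg.Agent.DMult.Minus.Setting

/-!
The projection is injective on the group generated by the lifts of the positive root elements, minus type.
-/

set_option autoImplicit false
set_option linter.unusedSectionVars false
set_option linter.unusedSimpArgs false

open Matrix
open scoped commutatorElement Pointwise

namespace Cfsg.Agent.DMult.Minus.BMExt

open Chev.Ortho
open CurtisTitsD (ok_of_lev)

universe u

variable {F : Type u} [Field F] [Fintype F] {m : ℕ} {a b : F} [hab : Fact (Aniso a b)] {Γ : Type u} [Group Γ]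
  [Finite Γ] (B : BMExt m a b Γ)

local notation "I" => Fin m ⊕ Fin m

/-- The generators of the positive unipotent group of levels at least `k`. -/
def ugens (k : ℕ) : Set Γ :=
  {x | ∃ i : Fin m, k ≤ (i : ℕ) ∧
    ((∃ y : Fin m ⊕ Fin m, (i : ℕ) < lev y ∧ ∃ t, B.XL (Sum.inl i) y t = x) ∨ ∃ z, B.Y (Sum.inl i) z = x)}

/-- The positive unipotent group of levels at least `k`. -/
noncomputable def UB (k : ℕ) : Subgroup Γ := Subgroup.closure (B.ugens k)

/-- The generators of a row. -/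
def rgens (k : Fin m) : Set Γ :=
  {x | (∃ y : Fin m ⊕ Fin m, (k : ℕ) < lev y ∧ ∃ t, B.XL (Sum.inl k) y t = x) ∨ ∃ z, B.Y (Sum.inl k) z = x}

/-- A row of positive roots with its short root. -/
noncomputable def RowB (k : Fin m) : Subgroup Γ := Subgroup.closure (B.rgens k)

theorem XL_mem_RowB {k : Fin m} {y : I} (h : (k : ℕ) < lev y) (t : F) : B.XL (Sum.inl k) y t ∈ B.RowB k :=
  Subgroup.subset_closure (Or.inl ⟨y, h, t, rfl⟩)

theorem Y_mem_RowB (k : Fin m) (z : W a b) : B.Y (Sum.inl k) z ∈ B.RowB k :=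
  Subgroup.subset_closure (Or.inr ⟨z, rfl⟩)

theorem Row_le_RowB (k : Fin m) : (Row B.D k).map B.DS.subtype ≤ B.RowB k := by
  rw [Row, MonoidHom.map_closure, Subgroup.closure_le]
  rintro _ ⟨_, ⟨w, s, hw, rfl⟩, rfl⟩
  rw [Subgroup.coe_subtype, B.XL_eq_X (lev_lt_ne hw)]
  exact B.XL_mem_RowB hw s

theorem rowB_conj {k i : Fin m} (hki : k < i) {x z : Γ} (hx : x ∈ B.rgens k) (hz : z ∈ B.rgens i) :
    ⁅x, z⁆ ∈ B.RowB k := by
  have hki' : (k : ℕ) < i := hki
  have hkl : lev (Sum.inl k : I) ≠ lev (Sum.inl i : I) := ne_of_lt hki'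
  obtain ⟨y, hy, t, rfl⟩ | ⟨t, rfl⟩ := hx
  · have hky : lev (Sum.inl k : I) ≠ lev y := lev_lt_ne hy
    obtain ⟨y', hy', u, rfl⟩ | ⟨u, rfl⟩ := hz
    · have := B.Row_le_RowB k ⟨_, row_conj B.D hki hy' hy t u, rfl⟩
      rwa [map_commutatorElement, Subgroup.coe_subtype, B.XL_eq_X hky, B.XL_eq_X (lev_lt_ne hy')] at this
    · by_cases e : y = bar (Sum.inl i : I)
      · subst e
        rw [B.XL_Y_rel hkl]
        exact mul_mem (B.Y_mem_RowB k _) (B.XL_mem_RowB hki' _)
      · rw [commutatorElement_eq_one_iff_commute.2 (B.XL_Y_comm hky (by simp [bar])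
          (fun h => e (by rw [← h, bar_bar])) t u)]
        exact one_mem _
  · obtain ⟨y', hy', u, rfl⟩ | ⟨u, rfl⟩ := hz
    · rw [commutatorElement_eq_one_iff_commute.2 (B.XL_Y_comm (lev_lt_ne hy') (by simp [bar])
        (fun h => ?_) u t).symm]
      · exact one_mem _
      · have := congrArg lev h
        rw [lev_bar] at this
        simp only [lev, Sum.elim_inl] at this hy' hki'
        omega
    · rw [B.Y_rel hkl]
      exact B.XL_mem_RowB hki' _

theorem UB_split {k : Fin m} {g : Γ} (hg : g ∈ B.UB (k : ℕ)) :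
    ∃ r ∈ B.RowB k, ∃ v ∈ B.UB ((k : ℕ) + 1), g = r * v := by
  have hnorm : B.UB ((k : ℕ) + 1) ≤ Subgroup.normalizer (B.RowB k : Set Γ) := by
    rw [UB, Subgroup.closure_le]
    rintro z ⟨i, hi, hz⟩
    refine CurtisTitsD.mem_normalizer_of_map_le ?_
    rw [RowB, MonoidHom.map_closure, Subgroup.closure_le]
    rintro _ ⟨x, hx, rfl⟩
    simp only [MulEquiv.coe_toMonoidHom, MulAut.conj_apply]
    rw [show z * x * z⁻¹ = ⁅x, z⁆⁻¹ * x by rw [commutatorElement_def]; group]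
    exact mul_mem (inv_mem (B.rowB_conj (by rw [Fin.lt_def]; omega) hx hz)) (Subgroup.subset_closure hx)
  have hle : B.UB (k : ℕ) ≤ B.RowB k ⊔ B.UB ((k : ℕ) + 1) := by
    conv_lhs => rw [UB]
    rw [Subgroup.closure_le]
    rintro x ⟨i, hi, hx⟩
    by_cases h : i = k
    · subst h; exact Subgroup.mem_sup_left (Subgroup.subset_closure hx)
    · exact Subgroup.mem_sup_right (Subgroup.subset_closure
        ⟨i, by have := fun e => h (Fin.ext e); omega, hx⟩)
  have h2 : g ∈ ((B.RowB k : Set Γ) * (B.UB ((k : ℕ) + 1) : Set Γ)) := by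
    rw [← Subgroup.coe_mul_of_right_le_normalizer_left _ _ hnorm]; exact hle hg
  obtain ⟨r, hr, v, hv, e⟩ := h2
  exact ⟨r, hr, v, hv, e.symm⟩

theorem rowB_split {k : Fin m} {r : Γ} (hr : r ∈ B.RowB k) :
    ∃ z, ∃ d ∈ Row B.D k, r = B.Y (Sum.inl k) z * (d : Γ) := by
  have cY : ∀ {d : B.DS}, d ∈ Row B.D k → ∀ w, Commute (d : Γ) (B.Y (Sum.inl k) w) := by
    intro d hd w
    refine Subgroup.closure_induction (p := fun (d : B.DS) _ => Commute (d : Γ) (B.Y (Sum.inl k) w))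
      ?_ (Commute.one_left _) (fun x y _ _ hx hy => hx.mul_left hy) (fun x _ hx => hx.inv_left) hd
    rintro _ ⟨y, t, hy, rfl⟩
    rw [B.XL_eq_X (lev_lt_ne hy)]
    exact B.XL_Y_comm (lev_lt_ne hy) (bar_ne _) (fun e => by
      have := congrArg lev e
      rw [lev_bar] at this
      exact lev_lt_ne hy this.symm) t w
  refine Subgroup.closure_induction (p := fun r _ => ∃ z, ∃ d ∈ Row B.D k, r = B.Y (Sum.inl k) z * (d : Γ))
    ?_ ⟨0, 1, one_mem _, by simp [B.Y_zero]⟩ ?_ ?_ hr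
  · rintro _ (⟨y, hy, t, rfl⟩ | ⟨z, rfl⟩)
    · exact ⟨0, X B.D (Sum.inl k) y t, Subgroup.subset_closure ⟨y, t, hy, rfl⟩,
        by rw [B.Y_zero, one_mul, B.XL_eq_X (lev_lt_ne hy)]⟩
    · exact ⟨z, 1, one_mem _, by simp⟩
  · rintro _ _ _ _ ⟨z, d, hd, rfl⟩ ⟨w, e, he, rfl⟩
    refine ⟨z + w, d * e, mul_mem hd he, ?_⟩
    rw [B.Y_add, Subgroup.coe_mul, mul_assoc, ← mul_assoc (d : Γ), (cY hd w).eq]
    simp only [mul_assoc]
  · rintro _ _ ⟨z, d, hd, rfl⟩
    refine ⟨-z, d⁻¹, inv_mem hd, ?_⟩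
    rw [_root_.mul_inv_rev, B.Y_inv, ← (cY (inv_mem hd) (-z)).eq, Subgroup.coe_inv]

theorem rowB_inj {k : Fin m} {r : Γ} (hr : r ∈ B.RowB k)
    (h1 : gact (B.σ r) (vmk (Pi.single (Sum.inr k) 1) (0 : W a b)) =
      vmk (Pi.single (Sum.inr k) 1) (0 : W a b)) : r = 1 := by
  obtain ⟨z, d, hd, rfl⟩ := B.rowB_split hr
  set e : (Fin m ⊕ Fin m) ⊕ Fin 2 → F := vmk (Pi.single (Sum.inr k) 1) (0 : W a b) with he
  have hk : Chev.Ortho.act (B.σD d) (Pi.single (Sum.inr k) 1) (Sum.inr k) = 1 := by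
    refine Subgroup.closure_induction (p := fun (d : B.DS) _ => ∀ v,
      Chev.Ortho.act (B.σD d) v (Sum.inr k) = v (Sum.inr k)) ?_ (fun v => by rw [map_one, Chev.Ortho.act_one])
      (fun x y _ _ hx hy v => by rw [map_mul, Chev.Ortho.act_mul, hx, hy])
      (fun x _ hx v => by
        have := hx (Chev.Ortho.act (B.σD x⁻¹) v)
        rw [← Chev.Ortho.act_mul, ← map_mul, mul_inv_cancel, map_one, Chev.Ortho.act_one] at this
        exact this.symm) hd (Pi.single (Sum.inr k) 1) |>.trans (Pi.single_eq_same _ _)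
    rintro _ ⟨y, t, hy, rfl⟩ v
    rw [show B.σD (X B.D (Sum.inl k) y t) = el (ok_of_lev (lev_lt_ne hy)) t from σ_X B.D _ t, el_apply,
      if_neg (by simp), if_neg (fun e => by rw [← e] at hy; exact lt_irrefl _ hy)]
    simp
  rw [map_mul, gact_mul, B.σ_Y, ← B.emb_σD] at h1
  have hw := congrArg (wp a b) h1
  have hbar : bar (Sum.inl k : I) = Sum.inr k := rfl
  rw [wp_sh, wp_emb, hy_emb, he, wp_vmk, hy_vmk, hbar, hk, one_smul, zero_add] at hw
  subst hw
  have hd1 : d = 1 := by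
    refine row_inj B.D hd fun y hy' => ?_
    have h2 := congrArg (fun v => hy v y) h1
    simp only [sh_zero, gact_one, hy_emb, he, hy_vmk] at h2
    refine h2.trans (Pi.single_eq_of_ne (fun e => ?_) _)
    rw [e] at hy'; exact lt_irrefl _ hy'
  rw [hd1, B.Y_zero, one_mul, OneMemClass.coe_one]

theorem UB_fix {k : ℕ} {g : Γ} (hg : g ∈ B.UB k) {x : I} (hx : lev x < k) :
    gact (B.σ g) (vmk (Pi.single x 1) (0 : W a b)) = vmk (Pi.single x 1) (0 : W a b) := by
  refine Subgroup.closure_induction ?_ ?_ ?_ ?_ hg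
  · rintro _ ⟨i, hi, ⟨y, hy', t, rfl⟩ | ⟨z, rfl⟩⟩
    · rw [B.σ_XL (ok_of_lev (lev_lt_ne hy'))]
      have h1 : bar y ≠ x := fun e => by rw [← e, lev_bar] at hx; omega
      have h2 : bar (Sum.inl i : I) ≠ x := fun e => by
        rw [← e, lev_bar] at hx; exact absurd (lt_of_lt_of_le hx hi) (lt_irrefl _)
      refine vec_ext (a := a) (b := b) (fun r => ?_) (by rw [wp_emb])
      rw [hy_el, hy_vmk, Pi.single_eq_of_ne h1, Pi.single_eq_of_ne h2]
      simp
    · rw [B.σ_Y]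
      have h2 : bar (Sum.inl i : I) ≠ x := fun e => by
        rw [← e, lev_bar] at hx; exact absurd (lt_of_lt_of_le hx hi) (lt_irrefl _)
      refine vec_ext (a := a) (b := b) (fun r => ?_) ?_
      · rw [hy_sh, hy_vmk, wp_vmk, Pi.single_eq_of_ne h2]
        simp [Bp]
      · rw [wp_sh, hy_vmk, Pi.single_eq_of_ne h2, zero_smul, add_zero]
  · rw [map_one, gact_one]
  · intro p q _ _ hp hq; rw [map_mul, gact_mul, hq, hp]
  · intro p _ hp
    conv_lhs => rw [← hp, ← gact_mul, ← map_mul, inv_mul_cancel, map_one, gact_one]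

/-- The projection is injective on the positive unipotent group. -/
theorem UB_inj {k : ℕ} {g : Γ} (hg : g ∈ B.UB k) (h1 : B.σ g = 1) : g = 1 := by
  obtain ⟨d, hd⟩ : ∃ d, m ≤ k + d := ⟨m, by omega⟩
  induction d generalizing k g with
  | zero =>
    have : B.UB k = ⊥ := by
      rw [UB, Subgroup.closure_eq_bot_iff]
      rintro _ ⟨i, hi, -⟩
      exact absurd i.2 (by omega)
    rwa [this, Subgroup.mem_bot] at hg
  | succ d ih =>
    by_cases hk : m ≤ k + d
    · exact ih hg h1 hk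
    obtain ⟨r, hr, v, hv, rfl⟩ := B.UB_split (k := ⟨k, by omega⟩) hg
    have hv' : v ∈ B.UB (k + 1) := hv
    have e := B.UB_fix hv' (x := Sum.inr ⟨k, by omega⟩) (Nat.lt_succ_self k)
    have hr1 : r = 1 := B.rowB_inj hr (by
      have := congrArg (fun g => gact g (vmk (Pi.single (Sum.inr (⟨k, by omega⟩ : Fin m)) 1) (0 : W a b))) h1
      simp only [map_mul, gact_mul, gact_one] at this
      rwa [e] at this)
    subst hr1
    rw [one_mul] at h1 ⊢
    exact ih hv' h1 (by omega)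

end Cfsg.Agent.DMult.Minus.BMExt
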